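import Groth.Agent.Mero90.TensorLift
import Groth.Agent.QC70.Res
import Groth.Prelude.Def_DDual2

/-!
Complements on morphisms out of a tensor product with a module that has local frames.
-/

set_option autoImplicit false
set_option backward.isDefEq.respectTransparency.types false

noncomputable section

universe u

open CategoryTheory Limits AlgebraicGeometry MonoidalCategory TopologicalSpace Opposite

namespace Groth.Agent.GRec72

open Var76.LineBundle Mero90

variable {X : Scheme.{u}} {L M N : X.Modules}

/-- Morphisms out of a tensor product agree as soon as they agree on pure tensors. -/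
theorem hom_ext_tmul {a b : CohB1.tensorMod L M ⟶ N}
    (h : ∀ (U : X.Opens) (m : Γ(L, U)) (n : Γ(M, U)),
      a.app U (SecTwist.tmul L M U m n) = b.app U (SecTwist.tmul L M U m n)) : a = b := by
  refine ((Mod48.shfAdj (O := X.sheaf)).homEquiv (CohB1.tensorPre L M) N).injective ?_
  refine PresheafOfModules.hom_ext fun U => ModuleCat.MonoidalCategory.tensor_ext fun m n => ?_
  exact h U.unop m n

theorem tmul_map (L : X.Modules) {M M' : X.Modules} (f : M ⟶ M') (U : X.Opens) (m : Γ(M, U))
    (n : Γ(L, U)) :
    ((DCoh.tensorRightMod L).map f).app U (SecTwist.tmul M L U m n) =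
      SecTwist.tmul M' L U (f.app U m) n := by
  have h := congrArg (fun q => (PresheafOfModules.Hom.app q (op U)).hom
    (Mod48.tp (O := X.sheaf) (M := CohB1.toPMod M) (N := CohB1.toPMod L) (X := op U) m n))
    ((PresheafOfModules.sheafificationAdjunction (𝟙 X.ringCatSheaf.obj)).unit.naturality
      (show (CohB1.tensorPre M L : X.PresheafOfModules) ⟶ CohB1.tensorPre M' L from
        (show CohB1.toPMod M ⟶ CohB1.toPMod M' from f.val) ▷ CohB1.toPMod L))
  exact h.symm

/-- On a frame of `M` every section of the presheaf tensor product is a pure tensor with the frame. -/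
lemma exists_eq_tp {U : X.Opens} {e : Γ(M, U)} (he : IsFrame M U e) {V : X.Opens} (h : V ≤ U)
    (z : (CohB1.tensorPre L M).obj (op V)) :
    ∃ m : Γ(L, V), z = tq m (res M h e) := by
  induction z using TensorProduct.induction_on with
  | zero =>
    refine ⟨0, ?_⟩
    have h0 := Mod48.tp_add_left (O := X.sheaf) (M := CohB1.toPMod L) (N := CohB1.toPMod M)
      (X := op V) (0 : Γ(L, V)) 0 (res M h e)
    exact (add_eq_left.mp ((h0.symm.trans (congrArg (fun m : Γ(L, V) => tq m (res M h e)) (add_zero 0))))).symm
  | tmul m n =>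
    obtain ⟨a, rfl⟩ := (he V h).2 n
    refine ⟨a • m, ?_⟩
    exact (Mod48.tp_smul_right (O := X.sheaf) (M := CohB1.toPMod L) (N := CohB1.toPMod M)
      (X := op V) a m (res M h e)).trans (Mod48.tp_smul_left (O := X.sheaf) (M := CohB1.toPMod L)
        (N := CohB1.toPMod M) (X := op V) a m (res M h e)).symm
  | add z z' hz hz' =>
    obtain ⟨m, hm⟩ := hz
    obtain ⟨m', hm'⟩ := hz'
    exact ⟨m + m', (congrArg₂ (· + ·) hm hm').trans (Mod48.tp_add_left (O := X.sheaf)
      (M := CohB1.toPMod L) (N := CohB1.toPMod M) (X := op V) m m' (res M h e)).symm⟩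

/-- A pairing bijective against frames gives an isomorphism. -/
theorem isIso_lift_of_frame (P : Pairing L M N)
    (h : ∀ x : X, ∃ (U : X.Opens) (e : Γ(M, U)), x ∈ U ∧ IsFrame M U e ∧
      ∀ (V : X.Opens) (hV : V ≤ U), Function.Bijective (fun m : Γ(L, V) => P.b V m (res M hV e))) :
    IsIso P.lift := by
  choose U e hx he hb using h
  have key : ∀ (x : X) (V : X.Opens) (hV : V ≤ U x) (m : Γ(L, V)),
      P.preLift.app (op V) (tq m (res M hV (e x))) = P.b V m (res M hV (e x)) :=
    fun x V hV m => P.preLift_tp V _ _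
  have : IsIso ((Mod48.shf (O := X.sheaf)).map P.preLift) := by
    rw [Mod48.isIso_shf_map_iff_isLocalIso]
    refine ⟨⟨fun {W} z z' hzz => ?_⟩, ⟨fun {W} s => ?_⟩⟩
    · rintro x hxW
      let V := W.unop ⊓ U x
      have hVW : V ≤ W.unop := inf_le_left
      have hVU : V ≤ U x := inf_le_right
      refine ⟨V, homOfLE hVW, ?_, ⟨hxW, hx x⟩⟩
      change (CohB1.tensorPre L M).map (homOfLE hVW).op z = (CohB1.tensorPre L M).map (homOfLE hVW).op z'
      obtain ⟨a, ha⟩ := exists_eq_tp (he x) hVU ((CohB1.tensorPre L M).map (homOfLE hVW).op z)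
      obtain ⟨c, hc⟩ := exists_eq_tp (he x) hVU ((CohB1.tensorPre L M).map (homOfLE hVW).op z')
      have h1 : P.preLift.app (op V) ((CohB1.tensorPre L M).map (homOfLE hVW).op z) =
          P.preLift.app (op V) ((CohB1.tensorPre L M).map (homOfLE hVW).op z') := by
        rw [PresheafOfModules.naturality_apply, PresheafOfModules.naturality_apply]
        exact congrArg _ hzz
      rw [ha, hc, key x V hVU, key x V hVU] at h1
      rw [ha, hc, (hb x V hVU).1 h1]
    · rintro x hxW
      let V := W ⊓ U x
      have hVW : V ≤ W := inf_le_left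
      have hVU : V ≤ U x := inf_le_right
      refine ⟨V, homOfLE hVW, ?_, ⟨hxW, hx x⟩⟩
      obtain ⟨a, ha⟩ := (hb x V hVU).2 (res N hVW s)
      exact ⟨tq a (res M hVU (e x)), (key x V hVU a).trans ha⟩
  unfold Pairing.lift
  exact IsIso.comp_isIso' this inferInstance

end Groth.Agent.GRec72
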