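import Groth.Agent.GRec72.Reflect
import Groth.Agent.QCSupp72.Generation
import Groth.Agent.CohSerre72.Basic
import Groth.Agent.QC70.CoprodStalk
import Groth.Agent.S2214
import Groth.Agent.S6285
import Groth.Agent.S9823
import Mathlib.CategoryTheory.Presentable.Basic

/-!
An equivalence of categories of quasi-coherent modules matches the classes of modules vanishing on
quasi-compact open subsets.
-/

set_option autoImplicit false
set_option backward.isDefEq.respectTransparency.types false

noncomputable section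

universe u

open CategoryTheory Limits AlgebraicGeometry TopologicalSpace Opposite
open Groth.Agent.QC70

attribute [local instance] Cardinal.fact_isRegular_aleph0

namespace Groth.Agent.GRec72

variable {X Y : Scheme.{u}}

theorem support_sigma_subset {ι : Type u} (M : ι → X.Modules) {S : Set X}
    (h : ∀ i, CohB1.support (M i) ⊆ S) : CohB1.support (∐ M) ⊆ S := by
  classical
  intro x hx
  by_contra hS
  refine hx (subsingleton_of_forall_eq 0 fun e => ?_)
  obtain ⟨v, rfl⟩ := surjective_coprodStalkMap M x e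
  have hv : v = 0 := DirectSum.ext_component (X.presheaf.stalk x) fun j =>
    (notMem_support_iff.mp fun hj => hS (h j hj)).elim _ _
  rw [hv, map_zero]

theorem support_map_subset [CompactSpace X] [QuasiSeparatedSpace X]
    (e : QCohCat.QCoh X ≌ QCohCat.QCoh Y) {M N : QCohCat.QCoh X} (hN : CohB1.IsFP N.obj)
    (h : CohB1.support M.obj ⊆ CohB1.support N.obj) :
    CohB1.support (e.functor.obj M).obj ⊆ CohB1.support (e.functor.obj N).obj := by
  let F := e.functor ⋙ (QCohCat.isQCoh Y).ι
  refine QCSupp72.prop_of_support_subset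
    (fun E => CohB1.support (F.obj E) ⊆ CohB1.support (F.obj N)) (fun S hS => ?_)
    (fun ι M hM => ?_) hN subset_rfl M h
  · change CohB1.support ((S.map e.functor).map (QCohCat.isQCoh Y).ι).X₂ ⊆ _ ↔ _
    rw [CohSerre72.support_X₂ _ ((hS.map_of_exact e.functor).map_of_exact (QCohCat.isQCoh Y).ι),
      Set.union_subset_iff]
    exact Iff.rfl
  · rw [support_congr (PreservesCoproduct.iso F M)]
    exact support_sigma_subset _ hM

theorem isFP_map [CompactSpace X] [QuasiSeparatedSpace X] [CompactSpace Y] [QuasiSeparatedSpace Y]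
    (e : QCohCat.QCoh X ≌ QCohCat.QCoh Y) {N : QCohCat.QCoh X} (hN : CohB1.IsFP N.obj) :
    CohB1.IsFP (e.functor.obj N).obj := by
  have : IsFinitelyPresentable.{u} N := (Groth.Agent.S2214.result X N).mpr hN
  exact (Groth.Agent.S2214.result Y _).mp (isCardinalPresentable_of_equivalence N Cardinal.aleph0.{u} e)

theorem isCompact_compl_support_sections (N : X.Modules) [N.IsQuasicoherent] (hN : CohB1.IsFP N)
    {W : X.Opens} (hW : IsAffineOpen W) :
    IsOpen ((W : Set X) \ CohB1.support N) ∧ IsCompact ((W : Set X) \ CohB1.support N) := by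
  haveI := Props58.LocFree.finitePresentation_sections N hW
  obtain ⟨hc, hk⟩ := Groth.Agent.S6285.result Γ(X, W) Γ(N, W)
  have he : (W : Set X) \ CohB1.support N =
      hW.fromSpec '' ((Module.support Γ(X, W) Γ(N, W))ᶜ : Set (PrimeSpectrum Γ(X, W))) := by
    ext x
    constructor
    · rintro ⟨hxW, hxN⟩
      obtain ⟨p, rfl⟩ : x ∈ Set.range hW.fromSpec := by rwa [hW.range_fromSpec]
      exact ⟨p, fun hp => hxN ((QCSupp72.mem_support_sections_iff hW N p).mp hp), rfl⟩
    · rintro ⟨p, hp, rfl⟩
      exact ⟨QCSupp72.fromSpec_mem hW p,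
        fun hp' => hp ((QCSupp72.mem_support_sections_iff hW N p).mpr hp')⟩
  rw [he]
  exact ⟨hW.fromSpec.isOpenEmbedding.isOpenMap _ hc.isOpen_compl, hk.image hW.fromSpec.continuous⟩

theorem exists_open_eq_compl_support [CompactSpace X] (N : X.Modules) [N.IsQuasicoherent]
    (hN : CohB1.IsFP N) :
    ∃ U : X.Opens, IsCompact (U : Set X) ∧ (U : Set X) = (CohB1.support N)ᶜ := by
  obtain ⟨t, ht⟩ := isCompact_univ.elim_finite_subcover (fun V : X.affineOpens => (V.1 : Set X))
    (fun V => V.1.2) (fun x _ => by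
      obtain ⟨V, hV, hxV, -⟩ :=
        exists_isAffineOpen_mem_and_subset (show x ∈ (⊤ : X.Opens) from trivial)
      exact Set.mem_iUnion.mpr ⟨⟨V, hV⟩, hxV⟩)
  have heq : (CohB1.support N)ᶜ = ⋃ V ∈ t, ((V : X.affineOpens).1 : Set X) \ CohB1.support N := by
    refine Set.Subset.antisymm (fun x hx => ?_) (Set.iUnion₂_subset fun V _ x hx => hx.2)
    obtain ⟨V, hV, hxV⟩ := Set.mem_iUnion₂.mp (ht (Set.mem_univ x))
    exact Set.mem_iUnion₂.mpr ⟨V, hV, hxV, hx⟩
  refine ⟨⟨(CohB1.support N)ᶜ, ?_⟩, ?_, rfl⟩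
  · rw [heq]
    exact isOpen_biUnion fun V _ => (isCompact_compl_support_sections N hN V.2).1
  · change IsCompact (CohB1.support N)ᶜ
    rw [heq]
    exact t.finite_toSet.isCompact_biUnion fun V _ => (isCompact_compl_support_sections N hN V.2).2

/-- The complement of a quasi-compact open is the support of a finitely presented module. -/
theorem exists_fp_support [CompactSpace X] [QuasiSeparatedSpace X] {U : X.Opens}
    (hU : IsCompact (U : Set X)) :
    ∃ N : QCohCat.QCoh X, CohB1.IsFP N.obj ∧ CohB1.support N.obj = (U : Set X)ᶜ := by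
  obtain ⟨I, hfg, hI⟩ := (Groth.Agent.S9823.result X U).mp hU
  let O := Coh.structureModule X
  haveI hO : O.IsQuasicoherent :=
    inferInstanceAs (SheafOfModules.unit X.ringCatSheaf).IsQuasicoherent
  haveI := isQuasicoherent_idealMul I O
  let κ := Dual3.idealMulι I O
  haveI : Mono κ := inferInstanceAs (Mono (kernel.ι _))
  let N := cokernel κ
  haveI hNq : N.IsQuasicoherent := isQuasicoherent_cokernel κ
  let S : ShortComplex X.Modules := ShortComplex.mk κ (cokernel.π κ) (cokernel.condition κ)
  have hS : S.ShortExact :=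
    { exact := ShortComplex.exact_of_g_is_cokernel _ (cokernelIsCokernel κ) }
  haveI : S.X₁.IsQuasicoherent := ‹_›
  have hker : ∀ W : X.affineOpens, ∀ a : Γ(X, W.1),
      (cokernel.π κ).app W.1 (show Γ(O, W.1) from a) = 0 ↔ a ∈ I.ideal W := fun W a => by
    have h1 : (∃ c, κ.app W.1 c = (show Γ(O, W.1) from a)) ↔ a ∈ I.ideal W := by
      refine (mem_idealMul_iff I O W _).trans ?_
      constructor
      · intro h
        exact (Submodule.smul_le (N := (⊤ : Submodule Γ(X, W.1) Γ(O, W.1)))
          (P := (show Submodule Γ(X, W.1) Γ(O, W.1) from I.ideal W))).mpr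
          (fun r hr x _ => Ideal.mul_mem_right (show Γ(X, W.1) from x) _ hr) h
      · intro h
        have h' := Submodule.smul_mem_smul h
          (Submodule.mem_top (R := Γ(X, W.1)) (x := (show Γ(O, W.1) from (1 : Γ(X, W.1)))))
        rwa [show a • (show Γ(O, W.1) from (1 : Γ(X, W.1))) = (show Γ(O, W.1) from a) from mul_one a] at h'
    refine Iff.trans ⟨fun h => ?_, fun ⟨c, hc⟩ => ?_⟩ h1
    · exact exists_app_eq_of_exact S hS.exact W.1 _ h
    · rw [← hc]; exact app_f_g S W.1 c
  have hsurj : ∀ W : X.affineOpens, Function.Surjective ((cokernel.π κ).app W.1) := fun W =>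
    app_surjective_of_isAffineOpen S hS W.2
  refine ⟨⟨N, hNq⟩, Props58.LocFree.isFP_of_sections N (fun W : X.affineOpens => W.1)
    (iSup_affineOpens_eq_top X) (fun W => W.2) fun W => ?_, ?_⟩
  · let q : Γ(X, W.1) →ₗ[Γ(X, W.1)] Γ(N, W.1) := appLinear (cokernel.π κ) W.1
    refine Module.finitePresentation_of_surjective q (hsurj W) ?_
    have : LinearMap.ker q = I.ideal W := by ext a; exact hker W a
    rw [this]
    exact hfg W
  · rw [← hI]
    ext x
    obtain ⟨W, hW, hxW, -⟩ :=
      exists_isAffineOpen_mem_and_subset (show x ∈ (⊤ : X.Opens) from trivial)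
    obtain ⟨p, rfl⟩ : x ∈ Set.range hW.fromSpec := by rwa [hW.range_fromSpec]
    rw [← QCSupp72.mem_support_sections_iff hW N p, SetLike.mem_coe,
      Scheme.IdealSheafData.mem_support_iff_of_mem (U := ⟨W, hW⟩) hxW, Scheme.mem_zeroLocus_iff,
      Module.mem_support_iff']
    constructor
    · rintro ⟨m, hm⟩ f hf hb
      obtain ⟨a, rfl⟩ := hsurj ⟨W, hW⟩ m
      refine hm f ((QCSupp72.mem_basicOpen_iff hW p f).mp hb) ?_
      rw [← Scheme.Modules.Hom.app_smul]
      exact (hker ⟨W, hW⟩ _).mpr (Ideal.mul_mem_right _ _ hf)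
    · intro h
      refine ⟨(cokernel.π κ).app W (show Γ(O, W) from (1 : Γ(X, W))), fun r hr hr0 => ?_⟩
      rw [← Scheme.Modules.Hom.app_smul] at hr0
      exact h r ((hker ⟨W, hW⟩ r).mp
        (by rwa [show r • (show Γ(O, W) from (1 : Γ(X, W))) = (show Γ(O, W) from r) from mul_one r] at hr0))
        ((QCSupp72.mem_basicOpen_iff hW p r).mpr hr)

theorem le_of_off_le [CompactSpace X] [QuasiSeparatedSpace X] {U U' : X.Opens}
    (hU : IsCompact (U : Set X))
    (h : ∀ M : QCohCat.QCoh X, Off U M → Off U' M) : U' ≤ U := by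
  obtain ⟨N, -, hs⟩ := exists_fp_support hU
  intro x hx
  by_contra hxU
  exact h N (fun y hy hy' => (hs ▸ hy') hy) x hx (hs ▸ hxU)

theorem exists_off_map_iff [CompactSpace X] [QuasiSeparatedSpace X] [CompactSpace Y]
    [QuasiSeparatedSpace Y] (e : QCohCat.QCoh X ≌ QCohCat.QCoh Y) {U : X.Opens}
    (hU : IsCompact (U : Set X)) :
    ∃ V : Y.Opens, IsCompact (V : Set Y) ∧
      ∀ M : QCohCat.QCoh X, Off U M ↔ Off V (e.functor.obj M) := by
  obtain ⟨N, hN, hs⟩ := exists_fp_support hU
  have hN' := isFP_map e hN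
  haveI : (e.functor.obj N).obj.IsQuasicoherent := (e.functor.obj N).property
  obtain ⟨V, hV, hVs⟩ := exists_open_eq_compl_support (e.functor.obj N).obj hN'
  have hmem : ∀ y, y ∈ V ↔ y ∉ CohB1.support (e.functor.obj N).obj := fun y => Set.ext_iff.mp hVs y
  refine ⟨V, hV, fun M => ⟨fun h y hy hy' => (hmem y).mp hy
    (support_map_subset e hN (fun x hx => hs ▸ (fun hxU => h x hxU hx)) hy'), fun h x hx hx' => ?_⟩⟩
  have hsub : CohB1.support (e.functor.obj M).obj ⊆ CohB1.support (e.functor.obj N).obj :=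
    fun y hy => by_contra fun hy' => h y ((hmem y).mpr hy') hy
  have h2 := support_map_subset e.symm hN' hsub
  have h3 : CohB1.support M.obj ⊆ CohB1.support N.obj := by
    have eM : CohB1.support (e.inverse.obj (e.functor.obj M)).obj = CohB1.support M.obj :=
      (support_congr ((QCohCat.isQCoh X).ι.mapIso (e.unitIso.app M))).symm
    have eN : CohB1.support (e.inverse.obj (e.functor.obj N)).obj = CohB1.support N.obj :=
      (support_congr ((QCohCat.isQCoh X).ι.mapIso (e.unitIso.app N))).symm
    rw [← eM, ← eN]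
    exact h2
  exact (hs ▸ h3 hx') hx

end Groth.Agent.GRec72
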