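import Groth.Agent.GRec72.Line
import Groth.Agent.QC70.CoprodStalk

/-!
The image of the structure module has local frames.
-/

set_option autoImplicit false
set_option backward.isDefEq.respectTransparency.types false

noncomputable section

universe u

open CategoryTheory Limits AlgebraicGeometry TopologicalSpace Opposite
open Groth.Agent.QC70

namespace Groth.Agent.GRec72

variable {X Y : Scheme.{u}}

theorem surjective_stalk_of_off {U : X.Opens} {M N : QCohCat.QCoh X} {f : M ⟶ N}
    (hc : Off U (cokernel f)) {x : X} (hx : x ∈ U) : Function.Surjective (stalkMapM f.hom x) := by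
  haveI hc' : Subsingleton ((cokernel f.hom).presheaf.stalk x) := notMem_support_iff.mp fun h =>
    hc x hx ((support_congr (PreservesCokernel.iso (QCohCat.isQCoh X).ι f)) ▸ h)
  intro e
  let S : ShortComplex X.Modules :=
    ShortComplex.mk (Abelian.image.ι f.hom) (cokernel.π f.hom) (kernel.condition _)
  haveI : Mono S.f := (inferInstance : Mono (Abelian.image.ι f.hom))
  obtain ⟨d, rfl⟩ := stalkMapM_exact S
    (ShortComplex.exact_of_f_is_kernel _ (kernelIsKernel _)) x e (hc'.elim _ _)
  obtain ⟨c, rfl⟩ := surjective_stalkMapM_of_epi (Abelian.factorThruImage f.hom) x d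
  refine ⟨c, ?_⟩
  change stalkMapM f.hom x c =
    stalkMapM (Abelian.image.ι f.hom) x (stalkMapM (Abelian.factorThruImage f.hom) x c)
  rw [← stalkMapM_comp, Abelian.image.fac]

theorem off_cokernel_of_surjective {U : X.Opens} {M N : QCohCat.QCoh X} {f : M ⟶ N}
    (h : ∀ x ∈ U, Function.Surjective (stalkMapM f.hom x)) : Off U (cokernel f) := fun x hx hs =>
  (show x ∈ CohB1.support (cokernel f.hom) from
    support_congr (PreservesCokernel.iso (QCohCat.isQCoh X).ι f) ▸ hs)
      (subsingleton_stalk_cokernel f.hom x (h x hx))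

variable [CompactSpace X] [QuasiSeparatedSpace X] [CompactSpace Y] [QuasiSeparatedSpace Y]
  (e : QCohCat.QCoh X ≌ QCohCat.QCoh Y)

theorem exists_mem_qMap (y : Y) : ∃ U : QOpens X, IsAffineOpen U.1 ∧ y ∈ (qMap e U).1 := by
  obtain ⟨h, hh⟩ := exists_homeo e
  obtain ⟨U, hU, hyU, -⟩ :=
    exists_isAffineOpen_mem_and_subset (show h y ∈ (⊤ : X.Opens) from trivial)
  refine ⟨⟨U, hU.isCompact⟩, hU, ?_⟩
  rw [← hh ⟨U, hU.isCompact⟩]
  exact hyU

/-- A linear form on the image of the structure module near a point, with a unit value. -/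
theorem exists_local_form (y : Y) :
    ∃ (W : Y.Opens) (l : Γ((line e).obj, W))
      (χ : HomOn (line e).obj (Coh.structureModule Y) W),
      y ∈ Y.basicOpen (show Γ(Y, W) from χ.app W le_rfl l) := by
  classical
  obtain ⟨U, hU, hy⟩ := exists_mem_qMap e y
  let L' := e.inverse.obj (unitQ Y)
  haveI : L'.obj.IsQuasicoherent := L'.property
  let N' := closQ U.2 L'
  have hN' : IsClosedAt U.1 N'.obj := isClosedAt_clos U.1 L'.obj
  let span : Γ(L'.obj, U.1) → (unitQ X ⟶ N') := fun s =>
    spanMap hN' ((toClos U.1 L'.obj).app U.1 s)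
  let π : (∐ fun _ : Γ(L'.obj, U.1) => unitQ X) ⟶ N' := Sigma.desc span
  have hπ : Off U.1 (cokernel π) := off_cokernel_of_surjective fun x hx z => by
    obtain ⟨z0, rfl⟩ := (bijective_stalk_of_isoAt (isoAt_toClos U.1 L'.obj) hx).2 z
    obtain ⟨g, t, hg, hgt⟩ := stalk_exists_smul (isLocAt_of_isQuasicoherent L'.obj hU) hU hx z0
    have hu : IsUnit (X.presheaf.germ U.1 x hx g) := isUnit_germ hg
    let i : unitQ X ⟶ ∐ fun _ : Γ(L'.obj, U.1) => unitQ X := Sigma.ι (fun _ => unitQ X) t
    refine ⟨(↑hu.unit⁻¹ : X.presheaf.stalk x) •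
      stalkMapM i.hom x (germM (Coh.structureModule X) U.1 x hx (oneS X U.1)), ?_⟩
    refine ((stalkLinear π.hom x).map_smul _ _).trans ?_
    have h1 : stalkMapM π.hom x (stalkMapM i.hom x (germM (Coh.structureModule X) U.1 x hx (oneS X U.1)))
        = stalkMapM (toClos U.1 L'.obj) x (germM L'.obj U.1 x hx t) := by
      rw [← stalkMapM_comp, show i.hom ≫ π.hom = (span t).hom from
        congrArg InducedCategory.Hom.hom (Sigma.ι_desc span t : i ≫ π = span t)]
      exact (stalkMapM_germ _ hx _).trans ((congrArg _ ((spanMap_app_one hN' _ le_rfl).trans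
        (res_self _))).trans (stalkMapM_germ _ hx t).symm)
    refine (congrArg ((↑hu.unit⁻¹ : X.presheaf.stalk x) • ·) h1).trans ?_
    rw [← hgt]
    refine ((congrArg ((↑hu.unit⁻¹ : X.presheaf.stalk x) • ·)
      ((stalkLinear (toClos U.1 L'.obj) x).map_smul _ z0))).trans ?_
    exact (smul_smul _ _ _).trans ((congrArg (· • _) hu.val_inv_mul).trans (one_smul _ _))
  let V := (qMap e U).1
  have hFπ : Function.Surjective (stalkMapM (e.functor.map π).hom y) :=
    surjective_stalk_of_off (U := V)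
      ((Off _).prop_of_iso (PreservesCokernel.iso e.functor π) ((off_qMap e U _).mp hπ)) hy
  have hη : IsoAt V (e.functor.map (toClosQ U.2 L')).hom := isoAt_map_toClosQ e U L'
  let cu : (e.functor.obj L').obj ⟶ Coh.structureModule Y := (e.counitIso.hom.app (unitQ Y)).hom
  haveI : IsIso cu :=
    (inferInstance : IsIso ((QCohCat.isQCoh Y).ι.map (e.counitIso.hom.app (unitQ Y))))
  let σ : (e.functor.obj N').obj.presheaf.stalk y →ₗ[Y.presheaf.stalk y]
      (Coh.structureModule Y).presheaf.stalk y := (stalkLinear cu y).comp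
    (LinearEquiv.ofBijective (stalkLinear (e.functor.map (toClosQ U.2 L')).hom y)
      (bijective_stalk_of_isoAt hη hy)).symm.toLinearMap
  let χ : Γ(L'.obj, U.1) → HomOn (line e).obj (Coh.structureModule Y) V := fun s =>
    ((HomOn.ofHom (e.functor.map (span s)).hom V).comp hη.invHomOn).comp (HomOn.ofHom cu V)
  have hχ : ∀ s (W : Y.Opens) (hW : W ≤ V) (hyW : y ∈ W) (l : Γ((line e).obj, W)),
      σ (stalkMapM (e.functor.map (span s)).hom y (germM (line e).obj W y hyW l)) =
        germM (Coh.structureModule Y) W y hyW ((χ s).app W hW l) := by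
    intro s W hW hyW l
    have h2 : (LinearEquiv.ofBijective (stalkLinear (e.functor.map (toClosQ U.2 L')).hom y)
        (bijective_stalk_of_isoAt hη hy)).symm
          (stalkMapM (e.functor.map (span s)).hom y (germM (line e).obj W y hyW l)) =
        germM (e.functor.obj L').obj W y hyW
          (hη.invHomOn.app W hW ((e.functor.map (span s)).hom.app W l)) := by
      rw [LinearEquiv.symm_apply_eq]
      exact (stalkMapM_germ (e.functor.map (span s)).hom hyW l).trans
        ((congrArg _ (hη.app_invHomOn hW _).symm).trans (stalkMapM_germ _ hyW _).symm)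
    exact (congrArg (stalkMapM cu y) h2).trans (stalkMapM_germ cu hyW _)
  by_contra hcon
  push_neg at hcon
  let F' := e.functor ⋙ (QCohCat.isQCoh Y).ι
  let iso := PreservesCoproduct.iso F' (fun _ : Γ(L'.obj, U.1) => unitQ X)
  let toO : (Coh.structureModule Y).presheaf.stalk y → Prop := fun q =>
    ∃ (W : Y.Opens) (hyW : y ∈ W) (b : Γ(Coh.structureModule Y, W)),
      germM (Coh.structureModule Y) W y hyW b = q ∧ y ∉ Y.basicOpen (show Γ(Y, W) from b)
  have key : ∀ z, toO (σ (stalkMapM (e.functor.map π).hom y (stalkMapM iso.inv y z))) := by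
    intro z
    obtain ⟨v, rfl⟩ := surjective_coprodStalkMap _ y z
    induction v using DirectSum.induction_on with
    | zero =>
      change toO (σ ((stalkLinear (e.functor.map π).hom y)
        (stalkLinear iso.inv y (coprodStalkMap _ y 0))))
      rw [map_zero, map_zero, map_zero, map_zero]
      exact ⟨V, hy, 0, germM_zero hy, fun h => by
        change y ∈ Y.basicOpen (0 : Γ(Y, V)) at h
        rw [Scheme.basicOpen_zero] at h
        exact h⟩
    | of j v =>
      rw [← DirectSum.lof_eq_of (Y.presheaf.stalk y), coprodStalkMap_lof,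
        ← stalkMapM_comp, ← stalkMapM_comp]
      have hcomp : Sigma.ι (fun s => F'.obj (unitQ X)) j ≫ iso.inv ≫ (e.functor.map π).hom =
          (e.functor.map (span j)).hom := by
        rw [← Category.assoc, PreservesCoproduct.inv_hom, ι_comp_sigmaComparison]
        change (e.functor.map _ ≫ e.functor.map π).hom = _
        rw [← e.functor.map_comp, Sigma.ι_desc]
      rw [hcomp]
      obtain ⟨W, hyW, l, rfl⟩ := germM_exist v
      obtain ⟨hle, hy'⟩ : W ⊓ V ≤ W ∧ y ∈ W ⊓ V := ⟨inf_le_left, hyW, hy⟩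
      rw [← germM_res hle hy' l]
      erw [hχ j (W ⊓ V) inf_le_right hy']
      exact ⟨_, hy', _, rfl, hcon (W ⊓ V) (res (line e).obj hle l) ((χ j).mono inf_le_right)⟩
    | add a b ha hb =>
      change toO (σ ((stalkLinear (e.functor.map π).hom y)
        (stalkLinear iso.inv y (coprodStalkMap _ y (a + b)))))
      rw [map_add, map_add, map_add, map_add]
      obtain ⟨W₁, h₁, b₁, e₁, n₁⟩ := ha
      obtain ⟨W₂, h₂, b₂, e₂, n₂⟩ := hb
      have hy₁₂ : y ∈ W₁ ⊓ W₂ := ⟨h₁, h₂⟩
      refine ⟨W₁ ⊓ W₂, hy₁₂, res (Coh.structureModule Y) inf_le_left b₁ +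
        res (Coh.structureModule Y) inf_le_right b₂, ?_, fun h => ?_⟩
      · rw [germM_add, germM_res, germM_res, e₁, e₂]
        rfl
      · rcases Y.basicOpen_add_le (resO Y inf_le_left (show Γ(Y, W₁) from b₁))
          (resO Y inf_le_right (show Γ(Y, W₂) from b₂)) h with h | h
        · rw [Scheme.basicOpen_res] at h
          exact n₁ h.2
        · rw [Scheme.basicOpen_res] at h
          exact n₂ h.2
  let one : (Coh.structureModule Y).presheaf.stalk y :=
    germM (Coh.structureModule Y) V y hy (oneS Y V)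
  obtain ⟨w, hw⟩ := (bijective_stalkMapM_of_isIso cu y).2 one
  obtain ⟨z, hz⟩ := hFπ (stalkMapM (e.functor.map (toClosQ U.2 L')).hom y w)
  obtain ⟨z', rfl⟩ := (bijective_stalkMapM_of_isIso iso.inv y).2 z
  have h := key z'
  rw [hz] at h
  have hσ : σ (stalkMapM (e.functor.map (toClosQ U.2 L')).hom y w) = one := by
    refine Eq.trans ?_ hw
    exact congrArg (stalkMapM cu y) ((LinearEquiv.ofBijective _
      (bijective_stalk_of_isoAt hη hy)).symm_apply_apply w)
  rw [hσ] at h
  obtain ⟨W, hyW, b, hb, hnb⟩ := h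
  obtain ⟨W', hyW', i₁, i₂, he⟩ :=
    TopCat.Presheaf.germ_eq (Coh.structureModule Y).presheaf y hyW hy b (oneS Y V) hb
  have hb1 : resO Y i₁.le (show Γ(Y, W) from b) = 1 := he.trans (res_oneS i₂.le)
  have hy1 : y ∈ Y.basicOpen (resO Y i₁.le (show Γ(Y, W) from b)) := by
    rw [hb1, Y.basicOpen_of_isUnit isUnit_one]
    exact hyW'
  rw [Scheme.basicOpen_res] at hy1
  exact hnb hy1.2

/-- Local endomorphisms of the image of the structure module are scalar. -/
theorem exists_scalar_endo (U : QOpens X)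
    (p : HomOn (line e).obj (line e).obj (qMap e U).1) :
    ∃ c : Γ(Y, (qMap e U).1), ∀ (W : Y.Opens) (hW : W ≤ (qMap e U).1) (l : Γ((line e).obj, W)),
      p.app W hW l = resO Y hW c • l := by
  let O0 := closQ U.2 (unitQ X)
  have hO0 : IsClosedAt U.1 O0.obj := isClosedAt_clos U.1 (unitQ X).obj
  have hN := isClosedAt_map e U hO0
  have hη := isoAt_map e (k := toClosQ U.2 (unitQ X)) (U := U) (isoAt_toClos U.1 (unitQ X).obj)
  let g : (line e).obj ⟶ (e.functor.obj O0).obj :=
    hN.extend (p.comp (HomOn.ofHom (e.functor.map (toClosQ U.2 (unitQ X))).hom _))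
  obtain ⟨k, hk⟩ := e.functor.map_surjective (ObjectProperty.homMk g : line e ⟶ e.functor.obj O0)
  obtain ⟨r, hr⟩ := (isoAt_toClos U.1 (unitQ X).obj U.1 le_rfl).2 (k.hom.app U.1 (oneS X U.1))
  have hk2 : k = toClosQ U.2 (unitQ X) ≫
      ObjectProperty.homMk (scal hO0 (show Γ(X, U.1) from r)) := by
    rw [eq_spanMap (N := O0) hO0 k, eq_spanMap (N := O0) hO0 (toClosQ U.2 (unitQ X) ≫ _)]
    refine congrArg (spanMap (N := O0) hO0) ?_
    rw [← hr]
    refine Eq.trans ?_ (scal_app hO0 _ le_rfl _).symm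
    rw [resO_self]
    change _ = (show Γ(X, U.1) from r) • (toClos U.1 (unitQ X).obj).app U.1 (oneS X U.1)
    rw [← Scheme.Modules.Hom.app_smul]
    exact congrArg _ (mul_one (show Γ(X, U.1) from r)).symm
  refine ⟨ringIso e U (show Γ(X, U.1) from r), fun W hW l => (hη W hW).1 ?_⟩
  have h1 : g.app W l =
      (e.functor.map (toClosQ U.2 (unitQ X))).hom.app W (p.app W hW l) := hN.extend_app _ hW l
  refine h1.symm.trans ?_
  have h2 : g = (e.functor.map (toClosQ U.2 (unitQ X))).hom ≫
      scal hN (ringIso e U (show Γ(X, U.1) from r)) := by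
    rw [← corr_ringIso e U (show Γ(X, U.1) from r) O0 hO0]
    refine (congrArg InducedCategory.Hom.hom hk).symm.trans ?_
    rw [hk2, e.functor.map_comp]
    rfl
  rw [h2]
  refine (scal_app hN _ hW _).trans ?_
  exact (Scheme.Modules.Hom.app_smul _ _ l).symm

/-- The image of the structure module has frames. -/
theorem exists_frame_line (y : Y) :
    ∃ W : Y.Opens, y ∈ W ∧ ∃ ε : Γ((line e).obj, W),
      Var76.LineBundle.IsFrame (line e).obj W ε := by
  obtain ⟨W₀, l, χ, hy⟩ := exists_local_form e y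
  let a : Γ(Y, W₀) := show Γ(Y, W₀) from χ.app W₀ le_rfl l
  obtain ⟨W, hyW, hWa⟩ := exists_qOpens_of_mem hy
  obtain ⟨U, hU⟩ := qMap_surjective e W
  subst hU
  have hle : (qMap e U).1 ≤ W₀ := hWa.trans (Y.basicOpen_le a)
  have hunit : IsUnit (resO Y hle a) := by
    have h := (RingedSpace.isUnit_res_basicOpen _ a).map
      (Y.presheaf.map (homOfLE hWa).op).hom
    rw [show resO Y hle a = resO Y hWa (resO Y (Y.basicOpen_le a) a) from (resO_resO _ _ a).symm]
    exact h
  let ε : Γ((line e).obj, (qMap e U).1) :=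
    (↑hunit.unit⁻¹ : Γ(Y, (qMap e U).1)) • res (line e).obj hle l
  have hε : (show Γ(Y, (qMap e U).1) from χ.app _ hle ε) = 1 := by
    have h1 : χ.app _ hle ε = (↑hunit.unit⁻¹ : Γ(Y, (qMap e U).1)) •
        res (Coh.structureModule Y) hle (χ.app W₀ le_rfl l) :=
      (LinearMap.map_smul _ _ _).trans (congrArg _ (χ.app_res le_rfl hle l))
    exact h1.trans hunit.val_inv_mul
  let p : HomOn (line e).obj (line e).obj (qMap e U).1 :=
    (χ.mono hle).comp (spanHomOn (line e).obj ε)
  obtain ⟨c, hc⟩ := exists_scalar_endo e U p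
  have hεW : ∀ (V : Y.Opens) (hV : V ≤ (qMap e U).1),
      (show Γ(Y, V) from χ.app V (hV.trans hle) (res (line e).obj hV ε)) = 1 := fun V hV =>
    (χ.app_res hle hV ε).trans ((congrArg (resO Y hV) hε).trans (map_one _))
  have hp : ∀ (V : Y.Opens) (hV : V ≤ (qMap e U).1) (m : Γ((line e).obj, V)),
      p.app V hV m = (show Γ(Y, V) from χ.app V (hV.trans hle) m) • res (line e).obj hV ε :=
    fun V hV m => rfl
  have hc1 : c = 1 := by
    have h1 := hc _ le_rfl ε
    rw [hp _ le_rfl ε, hε, one_smul, res_self, resO_self] at h1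
    have h3 : χ.app _ hle ε = c • χ.app _ hle ε :=
      (congrArg (χ.app _ hle) h1).trans (LinearMap.map_smul _ c ε)
    have h4 : (show Γ(Y, (qMap e U).1) from χ.app _ hle ε) =
        c * (show Γ(Y, (qMap e U).1) from χ.app _ hle ε) := h3
    rw [hε, mul_one] at h4
    exact h4.symm
  subst hc1
  refine ⟨(qMap e U).1, hyW, ε, fun V hV => ⟨fun b b' hbb => ?_, fun m => ?_⟩⟩
  · have h1 : ∀ b : Γ(Y, V),
        (show Γ(Y, V) from χ.app V (hV.trans hle) (b • res (line e).obj hV ε)) = b := fun b => by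
      exact ((LinearMap.map_smul (χ.app V (hV.trans hle)) b _).trans
        ((congrArg (fun q : Γ(Y, V) => b * q) (hεW V hV)).trans (mul_one b)) :)
    exact (h1 b).symm.trans ((congrArg (fun q => (show Γ(Y, V) from χ.app V (hV.trans hle) q)) hbb).trans (h1 b'))
  · refine ⟨(show Γ(Y, V) from χ.app V (hV.trans hle) m), (hp V hV m).symm.trans ((hc V hV m).trans ?_)⟩
    rw [resO, map_one, one_smul]

end Groth.Agent.GRec72
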