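import Groth.Agent.GRec72.Scheme
import Groth.Agent.Mero90.Frames

/-!
The image of the structure module under an equivalence of categories of quasi-coherent modules is
invertible, and the pairing on quasi-compact opens.
-/

set_option autoImplicit false
set_option backward.isDefEq.respectTransparency.types false

noncomputable section

universe u

open CategoryTheory Limits AlgebraicGeometry TopologicalSpace Opposite
open Groth.Agent.QC70

namespace Groth.Agent.GRec72

variable {X Y : Scheme.{u}}

/-- The morphism from the structure module given by a section over `U` of a closed module. -/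
def spanMap [QuasiSeparatedSpace X] {U : X.Opens} {N : QCohCat.QCoh X} (hN : IsClosedAt U N.obj)
    (t : Γ(N.obj, U)) : unitQ X ⟶ N :=
  ObjectProperty.homMk (hN.extend (spanHomOn N.obj t))

section

variable [QuasiSeparatedSpace X] {U U' : X.Opens} {N N' : QCohCat.QCoh X}

theorem spanMap_app_one (hN : IsClosedAt U N.obj) (t : Γ(N.obj, U)) {W : X.Opens} (hW : W ≤ U) :
    (spanMap hN t).hom.app W (oneS X W) = res N.obj hW t :=
  (hN.extend_app _ hW _).trans (one_smul Γ(X, W) _)

theorem app_eq_smul (g : Coh.structureModule X ⟶ N.obj) (W : X.Opens)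
    (a : Γ(Coh.structureModule X, W)) :
    g.app W a = (show Γ(X, W) from a) • g.app W (oneS X W) := by
  rw [← Scheme.Modules.Hom.app_smul]
  exact congrArg _ (mul_one (show Γ(X, W) from a)).symm

theorem eq_spanMap (hN : IsClosedAt U N.obj) (g : unitQ X ⟶ N) :
    g = spanMap hN (g.hom.app U (oneS X U)) := by
  refine InducedCategory.hom_ext (hN.hom_ext fun W hW a => ?_)
  refine (app_eq_smul g.hom W a).trans ?_
  refine Eq.trans ?_ (hN.extend_app _ hW a).symm
  change _ = (show Γ(X, W) from a) • res N.obj hW (g.hom.app U (oneS X U))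
  rw [← app_res]
  exact congrArg _ (congrArg (g.hom.app W) (res_oneS hW).symm)

theorem spanMap_comp (hN : IsClosedAt U N.obj) (hN' : IsClosedAt U N'.obj) (t : Γ(N.obj, U))
    (k : N ⟶ N') : spanMap hN t ≫ k = spanMap hN' (k.hom.app U t) := by
  refine (eq_spanMap hN' _).trans (congrArg (spanMap hN') ?_)
  refine congrArg (k.hom.app U) ((spanMap_app_one hN t le_rfl).trans (res_self t))

theorem spanMap_mono (hN : IsClosedAt U' N.obj) (h : U' ≤ U) (t : Γ(N.obj, U)) :
    spanMap (hN.mono h) t = spanMap hN (res N.obj h t) :=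
  (eq_spanMap hN _).trans (congrArg (spanMap hN) (spanMap_app_one (hN.mono h) t h))

theorem spanMap_add (hN : IsClosedAt U N.obj) (t t' : Γ(N.obj, U)) :
    spanMap hN (t + t') = spanMap hN t + spanMap hN t' := by
  refine ((eq_spanMap hN (spanMap hN t + spanMap hN t')).trans (congrArg (spanMap hN) ?_)).symm
  change (spanMap hN t).hom.app U (oneS X U) + (spanMap hN t').hom.app U (oneS X U) = _
  rw [spanMap_app_one hN t le_rfl, spanMap_app_one hN t' le_rfl, res_self, res_self]

theorem spanMap_smul (hN : IsClosedAt U N.obj) (r : Γ(X, U)) (t : Γ(N.obj, U)) :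
    spanMap hN (r • t) = spanMap hN t ≫ ObjectProperty.homMk (scal hN r) := by
  rw [spanMap_comp hN hN]
  congr 1
  refine ((scal_app hN r le_rfl t).trans ?_).symm
  rw [resO_self]

theorem spanMap_injective (hN : IsClosedAt U N.obj) {t t' : Γ(N.obj, U)}
    (h : spanMap hN t = spanMap hN t') : t = t' := by
  have := congr((Scheme.Modules.Hom.app $(congrArg InducedCategory.Hom.hom h) U) (oneS X U))
  exact (res_self t).symm.trans ((spanMap_app_one hN t le_rfl).symm.trans
    (this.trans ((spanMap_app_one hN t' le_rfl).trans (res_self t'))))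

end

variable [CompactSpace X] [QuasiSeparatedSpace X] [CompactSpace Y] [QuasiSeparatedSpace Y]
  (e : QCohCat.QCoh X ≌ QCohCat.QCoh Y)

/-- The image of the structure module. -/
def line : QCohCat.QCoh Y := e.functor.obj (unitQ X)

theorem isoAt_map {U : QOpens X} {A B : QCohCat.QCoh X} {k : A ⟶ B} (hk : IsoAt U.1 k.hom) :
    IsoAt (qMap e U).1 (e.functor.map k).hom :=
  isoAt_of_off
    ((Off _).prop_of_iso (PreservesKernel.iso e.functor k)
      ((off_qMap e U _).mp (off_kernel_cokernel_of_isoAt hk).1))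
    ((Off _).prop_of_iso (PreservesCokernel.iso e.functor k)
      ((off_qMap e U _).mp (off_kernel_cokernel_of_isoAt hk).2))

variable (U : QOpens X) (G : QCohCat.QCoh X)

theorem isoAt_map_toClosQ : IsoAt (qMap e U).1 (e.functor.map (toClosQ U.2 G)).hom :=
  isoAt_map e (isoAt_toClos U.1 G.obj)

/-- The pairing over corresponding quasi-compact opens. -/
def beta (s : Γ(G.obj, U.1)) (l : Γ((line e).obj, (qMap e U).1)) :
    Γ((e.functor.obj G).obj, (qMap e U).1) :=
  (isoAt_map_toClosQ e U G).invHomOn.app _ le_rfl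
    ((e.functor.map (spanMap (isClosedAt_clos U.1 G.obj) ((toClos U.1 G.obj).app U.1 s) :
      unitQ X ⟶ closQ U.2 G)).hom.app _ l)

theorem beta_spec {N : QCohCat.QCoh X} (hN : IsClosedAt U.1 N.obj) (h : G ⟶ N) (s : Γ(G.obj, U.1))
    (l : Γ((line e).obj, (qMap e U).1)) :
    (e.functor.map h).hom.app _ (beta e U G s l) =
      (e.functor.map (spanMap hN (h.hom.app U.1 s))).hom.app _ l := by
  obtain ⟨h', rfl⟩ := (bijective_comp_of_closed hN (f := toClosQ U.2 G)
    (isoAt_toClos U.1 G.obj)).2 h
  change (e.functor.map (toClosQ U.2 G ≫ h')).hom.app _ _ =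
    (e.functor.map (spanMap hN (h'.hom.app U.1 ((toClos U.1 G.obj).app U.1 s)))).hom.app _ l
  rw [← spanMap_comp (N := closQ U.2 G) (isClosedAt_clos U.1 G.obj) hN, e.functor.map_comp,
    e.functor.map_comp]
  exact congrArg ((e.functor.map h').hom.app _)
    ((isoAt_map_toClosQ e U G).app_invHomOn le_rfl _)

theorem beta_eq_of_map_eq {x : Γ((e.functor.obj G).obj, (qMap e U).1)} {s : Γ(G.obj, U.1)}
    {l : Γ((line e).obj, (qMap e U).1)}
    (h : (e.functor.map (toClosQ U.2 G)).hom.app _ x =
      (e.functor.map (spanMap (isClosedAt_clos U.1 G.obj) ((toClos U.1 G.obj).app U.1 s) :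
        unitQ X ⟶ closQ U.2 G)).hom.app _ l) :
    x = beta e U G s l :=
  (isoAt_map_toClosQ e U G _ le_rfl).1
    (h.trans (beta_spec e U G (isClosedAt_clos U.1 G.obj) (toClosQ U.2 G) s l).symm)

theorem beta_natural {G' : QCohCat.QCoh X} (k : G ⟶ G') (s : Γ(G.obj, U.1))
    (l : Γ((line e).obj, (qMap e U).1)) :
    (e.functor.map k).hom.app _ (beta e U G s l) = beta e U G' (k.hom.app U.1 s) l := by
  refine beta_eq_of_map_eq e U G' ?_
  refine Eq.trans ?_ (beta_spec e U G (isClosedAt_clos U.1 G'.obj) (k ≫ toClosQ U.2 G') s l)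
  rw [e.functor.map_comp]
  rfl

theorem beta_res {U' : QOpens X} (h : U'.1 ≤ U.1) (h' : (qMap e U').1 ≤ (qMap e U).1)
    (s : Γ(G.obj, U.1)) (l : Γ((line e).obj, (qMap e U).1)) :
    res (e.functor.obj G).obj h' (beta e U G s l) =
      beta e U' G (res G.obj h s) (res (line e).obj h' l) := by
  refine beta_eq_of_map_eq e U' G ?_
  rw [app_res]
  have h1 := beta_spec e U G (N := closQ U'.2 G) ((isClosedAt_clos U'.1 G.obj).mono h) (toClosQ U'.2 G) s l
  refine (congrArg (res (e.functor.obj (closQ U'.2 G)).obj h') h1).trans ?_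
  rw [← app_res]
  refine congrArg (fun q : unitQ X ⟶ closQ U'.2 G =>
    (e.functor.map q).hom.app _ (res (line e).obj h' l)) ?_
  refine (spanMap_mono (N := closQ U'.2 G) (isClosedAt_clos U'.1 G.obj) h _).trans (congrArg _ ?_)
  exact (app_res (toClos U'.1 G.obj) h s).symm

theorem beta_add_left (s s' : Γ(G.obj, U.1)) (l : Γ((line e).obj, (qMap e U).1)) :
    beta e U G (s + s') l = beta e U G s l + beta e U G s' l := by
  refine (beta_eq_of_map_eq e U G ?_).symm
  have hs : spanMap (N := closQ U.2 G) (isClosedAt_clos U.1 G.obj)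
      ((toClos U.1 G.obj).app U.1 (s + s')) =
      spanMap (N := closQ U.2 G) (isClosedAt_clos U.1 G.obj) ((toClos U.1 G.obj).app U.1 s) +
        spanMap (N := closQ U.2 G) (isClosedAt_clos U.1 G.obj) ((toClos U.1 G.obj).app U.1 s') := by
    rw [map_add]
    exact spanMap_add (N := closQ U.2 G) _ _ _
  rw [hs, (additive_equiv e).map_add, map_add, beta_spec e U G (isClosedAt_clos U.1 G.obj),
    beta_spec e U G (isClosedAt_clos U.1 G.obj)]
  rfl

theorem beta_add_right (s : Γ(G.obj, U.1)) (l l' : Γ((line e).obj, (qMap e U).1)) :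
    beta e U G s (l + l') = beta e U G s l + beta e U G s l' := by
  exact (congrArg ((isoAt_map_toClosQ e U G).invHomOn.app _ le_rfl) (map_add
    (M := Γ((line e).obj, (qMap e U).1)) ((e.functor.map (spanMap (isClosedAt_clos U.1 G.obj) ((toClos U.1 G.obj).app U.1 s) :
      unitQ X ⟶ closQ U.2 G)).hom.app _).hom l l')).trans (map_add _ _ _)

theorem beta_smul_right (s : Γ(G.obj, U.1)) (c : Γ(Y, (qMap e U).1))
    (l : Γ((line e).obj, (qMap e U).1)) : beta e U G s (c • l) = c • beta e U G s l := by
  exact (congrArg ((isoAt_map_toClosQ e U G).invHomOn.app _ le_rfl)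
    (Scheme.Modules.Hom.app_smul (M := (line e).obj) (e.functor.map (spanMap (isClosedAt_clos U.1 G.obj)
      ((toClos U.1 G.obj).app U.1 s) : unitQ X ⟶ closQ U.2 G)).hom c l)).trans (map_smul _ _ _)

theorem beta_smul_left (s : Γ(G.obj, U.1)) (r : Γ(X, U.1))
    (l : Γ((line e).obj, (qMap e U).1)) :
    beta e U G (r • s) l = ringIso e U r • beta e U G s l := by
  refine (beta_eq_of_map_eq e U G ?_).symm
  have hs : spanMap (N := closQ U.2 G) (isClosedAt_clos U.1 G.obj)
      ((toClos U.1 G.obj).app U.1 (r • s)) =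
      spanMap (N := closQ U.2 G) (isClosedAt_clos U.1 G.obj) ((toClos U.1 G.obj).app U.1 s) ≫
        ObjectProperty.homMk (scal (isClosedAt_clos U.1 G.obj) r) := by
    rw [Scheme.Modules.Hom.app_smul]
    exact spanMap_smul (N := closQ U.2 G) _ _ _
  rw [hs, e.functor.map_comp, Scheme.Modules.Hom.app_smul,
    beta_spec e U G (isClosedAt_clos U.1 G.obj)]
  refine Eq.trans ?_ (congr((Scheme.Modules.Hom.app
    $(corr_ringIso e U r (closQ U.2 G) (isClosedAt_clos U.1 G.obj)) (qMap e U).1) _)).symm
  refine Eq.trans ?_ (scal_app _ _ le_rfl _).symm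
  rw [resO_self]
  rfl

variable {U G}

theorem beta_frame_injective {ε : Γ((line e).obj, (qMap e U).1)}
    (hε : Var76.LineBundle.IsFrame (line e).obj (qMap e U).1 ε) :
    Function.Injective (fun s => beta e U G s ε) := by
  intro s s' hss
  let N := closQ U.2 G
  have hN : IsClosedAt U.1 N.obj := isClosedAt_clos U.1 G.obj
  refine (isoAt_toClos U.1 G.obj U.1 le_rfl).1 (spanMap_injective (N := N) hN (e.functor.map_injective
    (InducedCategory.hom_ext ((isClosedAt_map e U hN).hom_ext fun W hW m => ?_))))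
  obtain ⟨a, rfl⟩ := (hε W hW).2 m
  have h1 : ∀ t : Γ(G.obj, U.1),
      (e.functor.map (spanMap (N := N) hN ((toClos U.1 G.obj).app U.1 t))).hom.app W (a • res (line e).obj hW ε) =
        a • res (e.functor.obj N).obj hW ((e.functor.map (toClosQ U.2 G)).hom.app _ (beta e U G t ε)) := by
    intro t
    refine ((Scheme.Modules.Hom.app_smul (M := (line e).obj) _ a _).trans
      (congrArg (fun q => a • q) (app_res (M := (line e).obj) _ hW ε))).trans ?_
    exact congrArg (fun q => a • res (e.functor.obj N).obj hW q)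
      (beta_spec e U G hN (toClosQ U.2 G) t ε).symm
  exact (h1 s).trans ((congrArg (fun q => a • res (e.functor.obj N).obj hW
    ((e.functor.map (toClosQ U.2 G)).hom.app _ q)) hss).trans (h1 s').symm)

theorem beta_frame_surjective {ε : Γ((line e).obj, (qMap e U).1)}
    (hε : Var76.LineBundle.IsFrame (line e).obj (qMap e U).1 ε) :
    Function.Surjective (fun s => beta e U G s ε) := by
  intro x
  let N := closQ U.2 G
  have hN : IsClosedAt U.1 N.obj := isClosedAt_clos U.1 G.obj
  let y := (e.functor.map (toClosQ U.2 G)).hom.app _ x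
  let γ : ∀ W (hW : W ≤ (qMap e U).1), Γ(Y, W) ≃ₗ[Γ(Y, W)] Γ((line e).obj, W) := fun W hW =>
    LinearEquiv.ofBijective (LinearMap.toSpanSingleton Γ(Y, W) _ (res (line e).obj hW ε)) (hε W hW)
  let g : (line e).obj ⟶ (e.functor.obj N).obj := (isClosedAt_map e U hN).extend
    { app := fun W hW => (LinearMap.toSpanSingleton Γ(Y, W) _ (res (e.functor.obj N).obj hW y)).comp
        (γ W hW).symm.toLinearMap
      app_res := fun {W W'} hW h m => by
        obtain ⟨a, rfl⟩ := (γ W hW).surjective m
        have e1 : (γ W' (h.trans hW)).symm (res (line e).obj h (γ W hW a)) = resO Y h a := by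
          rw [LinearEquiv.symm_apply_eq]
          change res (line e).obj h (a • res (line e).obj hW ε) = resO Y h a • res (line e).obj _ ε
          rw [res_smul, res_res]
        change (γ W' (h.trans hW)).symm (res (line e).obj h (γ W hW a)) • res _ _ y =
          res _ h ((γ W hW).symm (γ W hW a) • res _ hW y)
        rw [e1, LinearEquiv.symm_apply_apply, res_smul, res_res] }
  obtain ⟨k, hk⟩ := e.functor.map_surjective (ObjectProperty.homMk g : line e ⟶ e.functor.obj N)
  obtain ⟨s, hs⟩ := (isoAt_toClos U.1 G.obj U.1 le_rfl).2 (k.hom.app U.1 (oneS X U.1))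
  refine ⟨s, (beta_eq_of_map_eq e U G ?_).symm⟩
  have hk' : spanMap (N := N) hN ((toClos U.1 G.obj).app U.1 s) = k := by
    rw [hs]; exact (eq_spanMap hN k).symm
  rw [hk', hk]
  change y = g.app _ ε
  rw [IsClosedAt.extend_app _ _ le_rfl]
  change y = (γ _ le_rfl).symm ε • res _ le_rfl y
  have e2 : (γ _ le_rfl).symm ε = 1 := by
    rw [LinearEquiv.symm_apply_eq]
    change ε = (1 : Γ(Y, (qMap e U).1)) • res (line e).obj le_rfl ε
    rw [one_smul, res_self]
  rw [e2, one_smul, res_self]

end Groth.Agent.GRec72
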