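import Groth.Agent.GRec72.Invertible
import Groth.Agent.GRec72.Tensor
import Mathlib.CategoryTheory.Adjunction.Unique

/-!
An equivalence of categories of quasi-coherent modules is a pullback along an isomorphism followed by
a twist by an invertible module.
-/

set_option autoImplicit false
set_option backward.isDefEq.respectTransparency.types false

noncomputable section

universe u

open CategoryTheory Limits AlgebraicGeometry TopologicalSpace Opposite
open Groth.Agent.QC70

namespace Groth.Agent.GRec72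

variable {X Y : Scheme.{u}}

/-- Pullback along an isomorphism is pushforward along the inverse. -/
def pullbackIsoPush (f : Y ≅ X) :
    Scheme.Modules.pullback f.hom ≅ Scheme.Modules.pushforward f.inv :=
  (Scheme.Modules.pullbackPushforwardAdjunction f.hom).leftAdjointUniq
    (CategoryTheory.Equivalence.mk (Scheme.Modules.pushforward f.inv) (Scheme.Modules.pushforward f.hom)
      ((Scheme.Modules.pushforwardId X).symm ≪≫ Scheme.Modules.pushforwardCongr f.inv_hom_id.symm ≪≫
        (Scheme.Modules.pushforwardComp f.inv f.hom).symm)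
      (Scheme.Modules.pushforwardComp f.hom f.inv ≪≫ Scheme.Modules.pushforwardCongr f.hom_inv_id ≪≫
        Scheme.Modules.pushforwardId Y)).toAdjunction

variable [CompactSpace X] [QuasiSeparatedSpace X] [CompactSpace Y] [QuasiSeparatedSpace Y]
  (e : QCohCat.QCoh X ≌ QCohCat.QCoh Y) (f : Y ≅ X)
  (hf : ∀ U : QOpens X, ∃ hU : f.hom ⁻¹ᵁ U.1 = (qMap e U).1,
    ∀ r : Γ(X, U.1), f.hom.appLE U.1 (qMap e U).1 hU.ge r = ringIso e U r)

include hf

theorem mem_qMap_iff (U : QOpens X) (z : Y) : z ∈ (qMap e U).1 ↔ f.hom z ∈ U.1 := by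
  obtain ⟨hU, -⟩ := hf U
  rw [← hU]
  rfl

theorem hom_mem_preimage {W : Y.Opens} {z : Y} : f.hom z ∈ f.inv ⁻¹ᵁ W ↔ z ∈ W := by
  change f.inv (f.hom z) ∈ W ↔ z ∈ W
  rw [← Scheme.Hom.comp_apply, f.hom_inv_id]
  rfl

theorem qMap_le {U : QOpens X} {W : Y.Opens} (h : U.1 ≤ f.inv ⁻¹ᵁ W) : (qMap e U).1 ≤ W :=
  fun z hz => (hom_mem_preimage e f hf).mp (h ((mem_qMap_iff e f hf U z).mp hz))

theorem ext_qMap {N : Y.Modules} {W : Y.Opens} {a b : Γ(N, W)}
    (h : ∀ (U : QOpens X) (hU : U.1 ≤ f.inv ⁻¹ᵁ W),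
      res N (qMap_le e f hf hU) a = res N (qMap_le e f hf hU) b) : a = b := by
  refine section_ext N a b fun z hz => ?_
  obtain ⟨U, hzU, hU⟩ := exists_qOpens_of_mem ((hom_mem_preimage e f hf).mpr hz)
  exact ⟨_, qMap_le e f hf hU, (mem_qMap_iff e f hf U z).mpr hzU, h U hU⟩

variable (G : QCohCat.QCoh X) {W : Y.Opens}

theorem existsUnique_pair (s : Γ(G.obj, f.inv ⁻¹ᵁ W)) (l : Γ((line e).obj, W)) :
    ∃! x : Γ((e.functor.obj G).obj, W), ∀ (U : QOpens X) (hU : U.1 ≤ f.inv ⁻¹ᵁ W),
      res (e.functor.obj G).obj (qMap_le e f hf hU) x =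
        beta e U G (res G.obj hU s) (res (line e).obj (qMap_le e f hf hU) l) := by
  let ι := {U : QOpens X // U.1 ≤ f.inv ⁻¹ᵁ W}
  obtain ⟨x, hx⟩ := exists_glue (e.functor.obj G).obj (fun i : ι => (qMap e i.1).1)
    (fun i => qMap_le e f hf i.2) (fun z hz => by
      obtain ⟨U, hzU, hU⟩ := exists_qOpens_of_mem ((hom_mem_preimage e f hf).mpr hz)
      exact Opens.mem_iSup.mpr ⟨⟨U, hU⟩, (mem_qMap_iff e f hf U z).mpr hzU⟩)
    (fun i => beta e i.1 G (res G.obj i.2 s) (res (line e).obj (qMap_le e f hf i.2) l))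
    fun i j => by
      refine section_ext _ _ _ fun z hz => ?_
      obtain ⟨U, hzU, hU⟩ := exists_qOpens_of_mem
        (show f.hom z ∈ i.1.1 ⊓ j.1.1 from
          ⟨(mem_qMap_iff e f hf _ z).mp hz.1, (mem_qMap_iff e f hf _ z).mp hz.2⟩)
      have hi : (qMap e U).1 ≤ (qMap e i.1).1 := (qMap_le_iff e U i.1).mpr (hU.trans inf_le_left)
      have hj : (qMap e U).1 ≤ (qMap e j.1).1 := (qMap_le_iff e U j.1).mpr (hU.trans inf_le_right)
      refine ⟨_, le_inf hi hj, (mem_qMap_iff e f hf U z).mpr hzU, ?_⟩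
      rw [res_res, res_res, beta_res e i.1 G (hU.trans inf_le_left) hi,
        beta_res e j.1 G (hU.trans inf_le_right) hj, res_res, res_res, res_res, res_res]
  exact ⟨x, fun U hU => hx ⟨U, hU⟩,
    fun x' hx' => ext_qMap e f hf fun U hU => (hx' U hU).trans (hx ⟨U, hU⟩).symm⟩

/-- The pairing. -/
def pair (s : Γ(G.obj, f.inv ⁻¹ᵁ W)) (l : Γ((line e).obj, W)) : Γ((e.functor.obj G).obj, W) :=
  (existsUnique_pair e f hf G s l).choose

theorem pair_res (s : Γ(G.obj, f.inv ⁻¹ᵁ W)) (l : Γ((line e).obj, W)) (U : QOpens X)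
    (hU : U.1 ≤ f.inv ⁻¹ᵁ W) :
    res (e.functor.obj G).obj (qMap_le e f hf hU) (pair e f hf G s l) =
      beta e U G (res G.obj hU s) (res (line e).obj (qMap_le e f hf hU) l) :=
  (existsUnique_pair e f hf G s l).choose_spec.1 U hU

theorem ringIso_res_app (r : Γ(Y, W)) (U : QOpens X) (hU : U.1 ≤ f.inv ⁻¹ᵁ W) :
    ringIso e U (resO X hU (f.inv.app W r)) = resO Y (qMap_le e f hf hU) r := by
  obtain ⟨hU', h⟩ := hf U
  rw [← h]
  change (f.inv.appLE W U.1 hU ≫ f.hom.appLE U.1 (qMap e U).1 hU'.ge) r = _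
  have key : ∀ {k k' : Y ⟶ Y} (_ : k = k') (h₁ : (qMap e U).1 ≤ k ⁻¹ᵁ W)
      (h₂ : (qMap e U).1 ≤ k' ⁻¹ᵁ W), k.appLE W _ h₁ = k'.appLE W _ h₂ := fun h h₁ h₂ => by
    subst h; rfl
  rw [Scheme.Hom.appLE_comp_appLE, key f.hom_inv_id _ (qMap_le e f hf hU)]
  simp [Scheme.Hom.appLE]
  rfl

/-- The pairing between the transported module and the line bundle. -/
def pairing : Mero90.Pairing ((Scheme.Modules.pushforward f.inv).obj G.obj) (line e).obj
    (e.functor.obj G).obj where
  b W s l := pair e f hf G (show Γ(G.obj, f.inv ⁻¹ᵁ W) from s) l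
  add_left W s s' l := by
    refine ext_qMap e f hf fun U hU => ?_
    rw [res_add, pair_res e f hf G _ _ U hU, pair_res e f hf G _ _ U hU, pair_res e f hf G _ _ U hU,
      ← beta_add_left]
    exact congrArg (fun q => beta e U G q _) (res_add hU _ _)
  add_right W s l l' := by
    refine ext_qMap e f hf fun U hU => ?_
    rw [res_add, pair_res e f hf G _ _ U hU, pair_res e f hf G _ _ U hU, pair_res e f hf G _ _ U hU,
      res_add, ← beta_add_right]
  smul_left W r s l := by
    refine ext_qMap e f hf fun U hU => ?_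
    rw [res_smul, pair_res e f hf G _ _ U hU, pair_res e f hf G _ _ U hU, ← ringIso_res_app e f hf r U hU, ← beta_smul_left]
    refine congrArg (fun q => beta e U G q _) ?_
    exact (congrArg (res G.obj hU) (QCqs72.pushforward_smul G.obj f.inv r s)).trans (res_smul hU _ _)
  smul_right W r s l := by
    refine ext_qMap e f hf fun U hU => ?_
    rw [res_smul, pair_res e f hf G _ _ U hU, pair_res e f hf G _ _ U hU, res_smul, beta_smul_right]
  nat W W' h s l := by
    refine ext_qMap e f hf fun U hU => ?_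
    have h' : U.1 ≤ f.inv ⁻¹ᵁ W := hU.trans (f.inv.preimage_mono h)
    rw [pair_res e f hf G _ _ U hU]
    change beta e U G (res G.obj hU (res G.obj (f.inv.preimage_mono h) s))
      (res (line e).obj _ (res (line e).obj h l)) =
        res (e.functor.obj G).obj _ (res (e.functor.obj G).obj h _)
    rw [res_res, res_res, res_res, pair_res e f hf G _ _ U h']

theorem exists_frame_bijective (z : Y) :
    ∃ (W₀ : Y.Opens) (ε : Γ((line e).obj, W₀)), z ∈ W₀ ∧
      Var76.LineBundle.IsFrame (line e).obj W₀ ε ∧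
        ∀ (V : Y.Opens) (hV : V ≤ W₀), Function.Bijective
          (fun s : Γ((Scheme.Modules.pushforward f.inv).obj G.obj, V) =>
            (pairing e f hf G).b V s (Var76.LineBundle.res (line e).obj hV ε)) := by
  obtain ⟨W₀, hz, ε, hε⟩ := exists_frame_line e z
  refine ⟨W₀, ε, hz, hε, fun V hV => ?_⟩
  have hfr : ∀ (U : QOpens X) (hU : U.1 ≤ f.inv ⁻¹ᵁ V),
      Var76.LineBundle.IsFrame (line e).obj (qMap e U).1
        (res (line e).obj (qMap_le e f hf hU) (res (line e).obj hV ε)) := fun U hU => by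
    rw [res_res]
    exact hε.res ((qMap_le e f hf hU).trans hV)
  constructor
  · intro s s' hss
    refine section_ext G.obj (show Γ(G.obj, f.inv ⁻¹ᵁ V) from s) s' fun x hx => ?_
    obtain ⟨U, hxU, hU⟩ := exists_qOpens_of_mem hx
    refine ⟨U.1, hU, hxU, beta_frame_injective e (hfr U hU) ?_⟩
    exact (pair_res e f hf G _ _ U hU).symm.trans
      ((congrArg (res (e.functor.obj G).obj (qMap_le e f hf hU)) hss).trans (pair_res e f hf G _ _ U hU))
  · intro x
    let ι := {U : QOpens X // U.1 ≤ f.inv ⁻¹ᵁ V}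
    choose t ht using fun i : ι => beta_frame_surjective e (hfr i.1 i.2)
      (res (e.functor.obj G).obj (qMap_le e f hf i.2) x)
    obtain ⟨s, hs⟩ := exists_glue G.obj (fun i : ι => i.1.1) (fun i => i.2) (fun a ha => by
      obtain ⟨U, haU, hU⟩ := exists_qOpens_of_mem ha
      exact Opens.mem_iSup.mpr ⟨⟨U, hU⟩, haU⟩) t fun i j => by
        refine section_ext _ _ _ fun a ha => ?_
        obtain ⟨U, haU, hU⟩ := exists_qOpens_of_mem ha
        have hi : (qMap e U).1 ≤ (qMap e i.1).1 := (qMap_le_iff e U i.1).mpr (hU.trans inf_le_left)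
        have hj : (qMap e U).1 ≤ (qMap e j.1).1 := (qMap_le_iff e U j.1).mpr (hU.trans inf_le_right)
        have hUV : U.1 ≤ f.inv ⁻¹ᵁ V := (hU.trans inf_le_left).trans i.2
        refine ⟨U.1, hU, haU, beta_frame_injective e (hfr U hUV) ?_⟩
        have key : ∀ (k : ι) (hk : U.1 ≤ k.1.1) (hk' : (qMap e U).1 ≤ (qMap e k.1).1),
            beta e U G (res G.obj hk (t k))
              (res (line e).obj (qMap_le e f hf hUV) (res (line e).obj hV ε)) =
              res (e.functor.obj G).obj (qMap_le e f hf hUV) x := by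
          intro k hk hk'
          have hr := congrArg (res (e.functor.obj G).obj hk') (ht k)
          simp only at hr
          rw [beta_res e k.1 G hk hk', res_res, res_res, res_res] at hr
          rw [res_res]
          exact hr
        simpa only [res_res] using
          (key i (hU.trans inf_le_left) hi).trans (key j (hU.trans inf_le_right) hj).symm
    refine ⟨s, ext_qMap e f hf fun U hU => ?_⟩
    change res _ _ (pair e f hf G s _) = _
    rw [pair_res e f hf G _ _ U hU, hs ⟨U, hU⟩]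
    exact ht ⟨U, hU⟩

omit hf

/-- The reconstruction theorem. -/
theorem exists_iso_pullback_tensor :
    ∃ (f : Y ≅ X) (L : Y.Modules), PicF.IsInvertible L ∧
      Nonempty (e.functor ⋙ (QCohCat.isQCoh Y).ι ≅
        (QCohCat.isQCoh X).ι ⋙ Scheme.Modules.pullback f.hom ⋙ DCoh.tensorRightMod L) := by
  obtain ⟨f, hf⟩ := exists_scheme_iso e
  refine ⟨f, (line e).obj, Mero90.isInvertible_of_frames (exists_frame_line e), ⟨?_⟩⟩
  have hiso : ∀ G : QCohCat.QCoh X, IsIso (pairing e f hf G).lift := fun G =>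
    isIso_lift_of_frame _ (exists_frame_bijective e f hf G)
  let α : (QCohCat.isQCoh X).ι ⋙ Scheme.Modules.pushforward f.inv ⋙ DCoh.tensorRightMod (line e).obj ≅
      e.functor ⋙ (QCohCat.isQCoh Y).ι :=
    NatIso.ofComponents (fun G => @asIso _ _ _ _ (pairing e f hf G).lift (hiso G)) fun {G G'} k => by
      refine hom_ext_tmul fun W s l => ?_
      change (pairing e f hf G').lift.app W (((DCoh.tensorRightMod (line e).obj).map
        ((Scheme.Modules.pushforward f.inv).map k.hom)).app W (SecTwist.tmul _ _ W s l)) =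
        (e.functor.map k).hom.app W ((pairing e f hf G).lift.app W (SecTwist.tmul _ _ W s l))
      rw [tmul_map, Mero90.Pairing.lift_tmul, Mero90.Pairing.lift_tmul]
      refine ext_qMap e f hf fun U hU => ?_
      change res _ _ (pair e f hf G' (k.hom.app (f.inv ⁻¹ᵁ W) (show Γ(G.obj, f.inv ⁻¹ᵁ W) from s)) l) =
        res _ _ ((e.functor.map k).hom.app W (pair e f hf G (show Γ(G.obj, f.inv ⁻¹ᵁ W) from s) l))
      rw [pair_res e f hf G' _ _ U hU, ← app_res, ← app_res, pair_res e f hf G _ _ U hU, beta_natural]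
  exact α.symm ≪≫ Functor.isoWhiskerLeft _ (Functor.isoWhiskerRight (pullbackIsoPush f).symm _)

end Groth.Agent.GRec72
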