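import Mathlib.AlgebraicGeometry.Properties
import Mathlib.AlgebraicGeometry.Morphisms.QuasiSeparated
import Mathlib.Topology.Sober

/-!
A quasi-compact quasi-separated scheme as a space is determined by its quasi-compact opens.
-/

set_option autoImplicit false

noncomputable section

universe u

open AlgebraicGeometry TopologicalSpace

namespace Groth.Agent.GRec72

/-- Quasi-compact open subsets. -/
abbrev QOpens (X : Scheme.{u}) : Type u := {U : X.Opens // IsCompact (U : Set X)}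

variable {X Y : Scheme.{u}}

theorem exists_qOpens_of_mem {x : X} {W : X.Opens} (hx : x ∈ W) :
    ∃ U : QOpens X, x ∈ U.1 ∧ U.1 ≤ W := by
  obtain ⟨U, hU, hxU, hUW⟩ := exists_isAffineOpen_mem_and_subset hx
  exact ⟨⟨U, hU.isCompact⟩, hxU, hUW⟩

theorem point_ext {x x' : X} (h : ∀ U : QOpens X, x ∈ U.1 ↔ x' ∈ U.1) : x = x' := by
  refine (inseparable_iff_forall_isOpen.mpr fun s hs => ?_).eq
  constructor <;> intro hx
  · obtain ⟨U, hxU, hle⟩ := exists_qOpens_of_mem (W := ⟨s, hs⟩) hx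
    exact hle ((h U).mp hxU)
  · obtain ⟨U, hxU, hle⟩ := exists_qOpens_of_mem (W := ⟨s, hs⟩) hx
    exact hle ((h U).mpr hxU)

theorem exists_point [CompactSpace X] [QuasiSeparatedSpace X] (p : X.Opens → Prop) (htop : p ⊤)
    (hbot : ¬ p ⊥)
    (hmono : ∀ U U' : X.Opens, IsCompact (U : Set X) → IsCompact (U' : Set X) → U ≤ U' → p U → p U')
    (hinf : ∀ U U' : X.Opens, IsCompact (U : Set X) → IsCompact (U' : Set X) → p U → p U' → p (U ⊓ U'))
    (hsup : ∀ U U' : X.Opens, IsCompact (U : Set X) → IsCompact (U' : Set X) → p (U ⊔ U') → p U ∨ p U') :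
    ∃ x : X, ∀ U : QOpens X, x ∈ U.1 ↔ p U.1 := by
  classical
  let W : X.Opens := ⨆ U : {U : QOpens X // ¬ p U.1}, U.1.1
  have hW : ∀ U : QOpens X, p U.1 ↔ ¬ U.1 ≤ W := by
    intro U
    refine ⟨fun hp hle => ?_, fun h => by_contra fun hp => h (le_iSup (fun V : {U : QOpens X // ¬ p U.1} => V.1.1) ⟨U, hp⟩)⟩
    obtain ⟨t, ht⟩ := U.2.elim_finite_subcover
      (fun V : {U : QOpens X // ¬ p U.1} => (V.1.1 : Set X)) (fun V => V.1.1.2) fun x hx => by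
        obtain ⟨V, hV⟩ := Opens.mem_iSup.mp (hle hx)
        exact Set.mem_iUnion.mpr ⟨V, hV⟩
    have key : ∀ s : Finset {U : QOpens X // ¬ p U.1},
        IsCompact ((s.sup fun V => V.1.1 : X.Opens) : Set X) ∧
          ¬ p (s.sup fun V => V.1.1) := by
      intro s
      induction s using Finset.induction with
      | empty => exact ⟨by simp, by rwa [Finset.sup_empty]⟩
      | @insert a s ha ih =>
        rw [Finset.sup_insert]
        refine ⟨?_, fun h => ?_⟩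
        · rw [Opens.coe_sup]
          exact a.1.2.union ih.1
        · exact (hsup _ _ a.1.2 ih.1 h).elim a.2 ih.2
    refine (key t).2 (hmono _ _ U.2 (key t).1 (fun x hx => ?_) hp)
    obtain ⟨V, hV, hxV⟩ := Set.mem_iUnion₂.mp (ht hx)
    exact Finset.le_sup (f := fun V : {U : QOpens X // ¬ p U.1} => V.1.1) hV hxV
  have hC : IsIrreducible ((W : Set X)ᶜ) := by
    refine ⟨?_, fun u v hu hv hxu hxv => ?_⟩
    · by_contra h
      rw [Set.not_nonempty_iff_eq_empty, Set.compl_empty_iff] at h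
      exact (hW ⟨⊤, isCompact_univ⟩).mp htop fun x _ => h.ge (Set.mem_univ x)
    · obtain ⟨x, hxW, hxu⟩ := hxu
      obtain ⟨y, hyW, hyv⟩ := hxv
      obtain ⟨U, hxU, hUu⟩ := exists_qOpens_of_mem (W := ⟨u, hu⟩) hxu
      obtain ⟨V, hyV, hVv⟩ := exists_qOpens_of_mem (W := ⟨v, hv⟩) hyv
      have hc : IsCompact ((U.1 ⊓ V.1 : X.Opens) : Set X) :=
        isQuasiSeparated_univ _ _ (Set.subset_univ _) U.1.2 U.2 (Set.subset_univ _) V.1.2 V.2
      have h := (hW ⟨_, hc⟩).mp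
        (hinf _ _ U.2 V.2 ((hW U).mpr fun h => hxW (h hxU)) ((hW V).mpr fun h => hyW (h hyV)))
      obtain ⟨z, hz, hzW⟩ := Set.not_subset.mp h
      exact ⟨z, hzW, hUu hz.1, hVv hz.2⟩
  obtain ⟨x, hx⟩ := QuasiSober.sober hC W.2.isClosed_compl
  refine ⟨x, fun U => ?_⟩
  rw [hW]; refine (hx.mem_open_set_iff U.1.2).trans ?_
  refine ⟨fun ⟨z, hzW, hzU⟩ h => hzW (h hzU), fun h => ?_⟩
  obtain ⟨z, hzU, hzW⟩ := Set.not_subset.mp h
  exact ⟨z, hzW, hzU⟩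

theorem exists_map [CompactSpace X] [QuasiSeparatedSpace X] [CompactSpace Y]
    [QuasiSeparatedSpace Y] (Φ : QOpens X ≃o QOpens Y) :
    ∃ h : Y → X, ∀ (U : QOpens X) (y : Y), h y ∈ U.1 ↔ y ∈ (Φ U).1 := by
  classical
  have inf : ∀ U V : QOpens X, IsCompact ((U.1 ⊓ V.1 : X.Opens) : Set X) := fun U V =>
    isQuasiSeparated_univ _ _ (Set.subset_univ _) U.1.2 U.2 (Set.subset_univ _) V.1.2 V.2
  have sup : ∀ U V : QOpens X, IsCompact ((U.1 ⊔ V.1 : X.Opens) : Set X) := fun U V => by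
    rw [Opens.coe_sup]; exact U.2.union V.2
  have htop : (Φ ⟨⊤, isCompact_univ⟩).1 = ⊤ := top_le_iff.mp <| by
    have h : Φ.symm ⟨⊤, isCompact_univ⟩ ≤ ⟨⊤, isCompact_univ⟩ :=
      show (Φ.symm ⟨⊤, isCompact_univ⟩).1 ≤ ⊤ from le_top
    have h' := Φ.monotone h
    rw [Φ.apply_symm_apply] at h'
    exact h'
  have hbot : (Φ ⟨⊥, by simp⟩).1 = ⊥ := le_bot_iff.mp <| by
    have h : (⟨⊥, by simp⟩ : QOpens X) ≤ Φ.symm ⟨⊥, by simp⟩ := bot_le (a := (Φ.symm ⟨⊥, by simp⟩).1)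
    have h' := Φ.monotone h
    rw [Φ.apply_symm_apply] at h'
    exact h'
  have key : ∀ y : Y, ∃ x : X, ∀ U : QOpens X, x ∈ U.1 ↔ ∀ hU, y ∈ (Φ ⟨U.1, hU⟩).1 := by
    intro y
    refine exists_point (fun U => ∀ hU, y ∈ (Φ ⟨U, hU⟩).1) (fun hU => by rw [htop]; trivial)
      (fun h => by
        have := h (by simp)
        rw [hbot] at this
        exact this.elim)
      (fun U U' hU hU' hle h _ => Φ.monotone (a := ⟨U, hU⟩) (b := ⟨U', hU'⟩) hle (h hU))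
      (fun U U' hU hU' h h' hI => ?_) (fun U U' hU hU' h => ?_)
    · let V : QOpens Y := ⟨(Φ ⟨U, hU⟩).1 ⊓ (Φ ⟨U', hU'⟩).1,
        isQuasiSeparated_univ _ _ (Set.subset_univ _) (Φ ⟨U, hU⟩).1.2 (Φ ⟨U, hU⟩).2
          (Set.subset_univ _) (Φ ⟨U', hU'⟩).1.2 (Φ ⟨U', hU'⟩).2⟩
      have h1 : Φ.symm V ≤ ⟨U ⊓ U', hI⟩ :=
        show (Φ.symm V).1 ≤ U ⊓ U' from le_inf
          (Subtype.coe_le_coe.mpr ((Φ.symm_apply_le (x := ⟨U, hU⟩)).mpr (show V.1 ≤ _ from inf_le_left)))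
          (Subtype.coe_le_coe.mpr ((Φ.symm_apply_le (x := ⟨U', hU'⟩)).mpr (show V.1 ≤ _ from inf_le_right)))
      have h2 := Φ.monotone h1
      rw [Φ.apply_symm_apply] at h2
      exact h2 ⟨h hU, h' hU'⟩
    · let V : QOpens Y := ⟨(Φ ⟨U, hU⟩).1 ⊔ (Φ ⟨U', hU'⟩).1, by
        rw [Opens.coe_sup]; exact (Φ ⟨U, hU⟩).2.union (Φ ⟨U', hU'⟩).2⟩
      have h1 : (⟨U ⊔ U', sup ⟨U, hU⟩ ⟨U', hU'⟩⟩ : QOpens X) ≤ Φ.symm V :=
        show U ⊔ U' ≤ (Φ.symm V).1 from sup_le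
          (Subtype.coe_le_coe.mpr ((Φ.le_symm_apply (x := ⟨U, hU⟩)).mpr (show _ ≤ V.1 from le_sup_left)))
          (Subtype.coe_le_coe.mpr ((Φ.le_symm_apply (x := ⟨U', hU'⟩)).mpr (show _ ≤ V.1 from le_sup_right)))
      have h2 := Φ.monotone h1
      rw [Φ.apply_symm_apply] at h2
      exact (h2 (h (sup ⟨U, hU⟩ ⟨U', hU'⟩))).imp (fun a _ => a) (fun a _ => a)
  choose h hh using key
  exact ⟨h, fun U y => (hh y U).trans ⟨fun a => a U.2, fun a _ => a⟩⟩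

theorem exists_homeomorph [CompactSpace X] [QuasiSeparatedSpace X] [CompactSpace Y]
    [QuasiSeparatedSpace Y] (Φ : QOpens X ≃o QOpens Y) :
    ∃ h : Y ≃ₜ X, ∀ (U : QOpens X) (y : Y), h y ∈ U.1 ↔ y ∈ (Φ U).1 := by
  obtain ⟨h, hh⟩ := exists_map Φ
  obtain ⟨g, hg⟩ := exists_map Φ.symm
  have cont : ∀ {A B : Scheme.{u}} (Ψ : QOpens B → QOpens A) (f : A → B),
      (∀ (U : QOpens B) (a : A), f a ∈ U.1 ↔ a ∈ (Ψ U).1) → Continuous f := by
    intro A B Ψ f hf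
    rw [continuous_iff_continuousAt]
    intro a
    rw [ContinuousAt, tendsto_nhds]
    intro s hs has
    obtain ⟨U, haU, hle⟩ := exists_qOpens_of_mem (W := ⟨s, hs⟩) has
    exact Filter.mem_of_superset ((Ψ U).1.2.mem_nhds ((hf U a).mp haU))
      fun b hb => hle ((hf U b).mpr hb)
  refine ⟨⟨⟨h, g, fun y => point_ext fun V => ?_, fun x => point_ext fun U => ?_⟩,
    cont Φ h hh, cont Φ.symm g hg⟩, hh⟩
  · rw [hg, hh, Φ.apply_symm_apply]
  · rw [hh, hg, Φ.symm_apply_apply]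

end Groth.Agent.GRec72
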