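import Groth.Agent.GRec72.Center
import Groth.Agent.GRec72.Support
import Groth.Agent.GRec72.Point
import Mathlib.Geometry.RingedSpace.LocallyRingedSpace
import Mathlib.Topology.Sheaves.SheafCondition.Sites

/-!
An equivalence of categories of quasi-coherent modules induces an isomorphism of schemes.
-/

set_option autoImplicit false
set_option backward.isDefEq.respectTransparency.types false

noncomputable section

universe u

open CategoryTheory Limits AlgebraicGeometry TopologicalSpace Opposite
open Groth.Agent.QC70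

namespace Groth.Agent.GRec72

variable {X Y : Scheme.{u}} [CompactSpace X] [QuasiSeparatedSpace X] [CompactSpace Y]
  [QuasiSeparatedSpace Y] (e : QCohCat.QCoh X ≌ QCohCat.QCoh Y)

/-- The open subset corresponding to a quasi-compact open subset. -/
def qMap (U : QOpens X) : QOpens Y :=
  ⟨(exists_off_map_iff e U.2).choose, (exists_off_map_iff e U.2).choose_spec.1⟩

theorem off_qMap (U : QOpens X) (M : QCohCat.QCoh X) :
    Off U.1 M ↔ Off (qMap e U).1 (e.functor.obj M) :=
  (exists_off_map_iff e U.2).choose_spec.2 M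

theorem qMap_le_iff (U U' : QOpens X) : qMap e U ≤ qMap e U' ↔ U ≤ U' := by
  constructor
  · intro h
    exact le_of_off_le U'.2 fun M hM =>
      (off_qMap e U M).mpr fun y hy => (off_qMap e U' M).mp hM y (h hy)
  · intro h
    refine le_of_off_le (qMap e U').2 fun N hN => ?_
    have h1 : Off U'.1 (e.inverse.obj N) :=
      (off_qMap e U' _).mpr ((Off (qMap e U').1).prop_of_iso (e.counitIso.app N).symm hN)
    exact (Off (qMap e U).1).prop_of_iso (e.counitIso.app N)
      ((off_qMap e U _).mp fun x hx => h1 x (h hx))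

theorem qMap_surjective (V : QOpens Y) : ∃ U, qMap e U = V := by
  refine ⟨qMap e.symm V, ?_⟩
  have h : ∀ N, Off (qMap e (qMap e.symm V)).1 N ↔ Off V.1 N := fun N => by
    refine Iff.trans ?_ (off_qMap e.symm V N).symm
    refine Iff.trans ⟨fun h => ?_, fun h => ?_⟩ (off_qMap e _ _).symm
    · exact (Off _).prop_of_iso (e.counitIso.app N).symm h
    · exact (Off _).prop_of_iso (e.counitIso.app N) h
  exact Subtype.ext (le_antisymm (le_of_off_le V.2 fun N hN => (h N).mpr hN)
    (le_of_off_le (qMap e (qMap e.symm V)).2 fun N hN => (h N).mp hN))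

/-- The order isomorphism of quasi-compact opens. -/
def qIso : QOpens X ≃o QOpens Y :=
  RelIso.ofSurjective (OrderEmbedding.ofMapLEIff (qMap e) (qMap_le_iff e)) (qMap_surjective e)

theorem qIso_apply (U : QOpens X) : qIso e U = qMap e U := rfl

theorem isClosedAt_map (U : QOpens X) {M : QCohCat.QCoh X} (hM : IsClosedAt U.1 M.obj) :
    IsClosedAt (qMap e U).1 (e.functor.obj M).obj :=
  (isClosedAt_iff_catClosed (qMap e U).2 _).mpr
    (catClosed_map e _ _ (off_qMap e U) ((isClosedAt_iff_catClosed U.2 _).mp hM))

theorem isClosedAt_inverse (U : QOpens X) {N : QCohCat.QCoh Y}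
    (hN : IsClosedAt (qMap e U).1 N.obj) : IsClosedAt U.1 (e.inverse.obj N).obj := by
  refine (isClosedAt_iff_catClosed U.2 _).mpr
    (catClosed_map e.symm (Off (qMap e U).1) (Off U.1) (fun L => ⟨fun h => ?_, fun h => ?_⟩)
      ((isClosedAt_iff_catClosed (qMap e U).2 _).mp hN))
  · exact (off_qMap e U _).mpr ((Off _).prop_of_iso (e.counitIso.app L).symm h)
  · exact (Off _).prop_of_iso (e.counitIso.app L) ((off_qMap e U _).mp h)

/-- `s` is the function corresponding to `r`. -/
def Corr (U : QOpens X) (r : Γ(X, U.1)) (s : Γ(Y, (qMap e U).1)) : Prop :=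
  ∀ (M : QCohCat.QCoh X) (hM : IsClosedAt U.1 M.obj),
    (e.functor.map (ObjectProperty.homMk (scal hM r) : M ⟶ M)).hom =
      scal (isClosedAt_map e U hM) s

theorem corr_unique {U : QOpens X} {r : Γ(X, U.1)} {s s' : Γ(Y, (qMap e U).1)}
    (h : Corr e U r s) (h' : Corr e U r s') : s = s' := by
  refine scal_injective (qMap e U).2 fun N hN => ?_
  have hM := isClosedAt_inverse e U hN
  have h1 := (h _ hM).symm.trans (h' _ hM)
  have hc : (e.counitIso.hom.app N).hom ≫ scal hN s = (e.counitIso.hom.app N).hom ≫ scal hN s' := by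
    rw [← scal_comm (isClosedAt_map e U hM) hN, ← scal_comm (isClosedAt_map e U hM) hN, h1]
  haveI : IsIso (e.counitIso.hom.app N).hom :=
    (inferInstance : IsIso ((QCohCat.isQCoh Y).ι.map (e.counitIso.hom.app N)))
  exact (cancel_epi (e.counitIso.hom.app N).hom).mp hc

theorem exists_corr (U : QOpens X) (r : Γ(X, U.1)) : ∃ s, Corr e U r s := by
  let φ : ∀ N : QCohCat.QCoh Y, IsClosedAt (qMap e U).1 N.obj → (N ⟶ N) := fun N hN =>
    e.counitIso.inv.app N ≫ e.functor.map
      (ObjectProperty.homMk (scal (isClosedAt_inverse e U hN) r) : e.inverse.obj N ⟶ e.inverse.obj N) ≫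
      e.counitIso.hom.app N
  have hnat : ∀ (M N : QCohCat.QCoh Y) (hM : IsClosedAt (qMap e U).1 M.obj)
      (hN : IsClosedAt (qMap e U).1 N.obj) (f : M ⟶ N), φ M hM ≫ f = f ≫ φ N hN := by
    intro M N hM hN f
    have h : (ObjectProperty.homMk (scal (isClosedAt_inverse e U hM) r) : e.inverse.obj M ⟶ _) ≫
        e.inverse.map f = e.inverse.map f ≫ ObjectProperty.homMk (scal (isClosedAt_inverse e U hN) r) :=
      InducedCategory.hom_ext (scal_comm _ _ r _)
    have n1 : e.counitIso.hom.app M ≫ f =
        e.functor.map (e.inverse.map f) ≫ e.counitIso.hom.app N :=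
      (e.counitIso.hom.naturality f).symm
    have n2 : f ≫ e.counitIso.inv.app N =
        e.counitIso.inv.app M ≫ e.functor.map (e.inverse.map f) := e.counitIso.inv.naturality f
    simp only [φ, Category.assoc]
    rw [n1, ← Category.assoc (e.functor.map _), ← e.functor.map_comp, h, e.functor.map_comp,
      Category.assoc, reassoc_of% n2]
  obtain ⟨s, hs⟩ := exists_scal (qMap e U).2 φ hnat
  refine ⟨s, fun M hM => ?_⟩
  rw [← hs _ (isClosedAt_map e U hM)]
  refine congrArg InducedCategory.Hom.hom ?_
  simp only [φ, Equivalence.counitInv_app_functor, Equivalence.counit_app_functor, ← e.functor.map_comp]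
  congr 1
  refine InducedCategory.hom_ext ?_
  change scal hM r = (e.unit.app M).hom ≫ scal _ r ≫ (e.unitInv.app M).hom
  rw [← Category.assoc, ← scal_comm hM, Category.assoc]
  have h1 : (e.unit.app M).hom ≫ (e.unitInv.app M).hom = 𝟙 M.obj :=
    congrArg InducedCategory.Hom.hom (e.unitIso.hom_inv_id_app M)
  exact ((congrArg (scal hM r ≫ ·) h1).trans (Category.comp_id _)).symm

theorem exists_corr' (U : QOpens X) (s : Γ(Y, (qMap e U).1)) : ∃ r, Corr e U r s := by
  let φ : ∀ M : QCohCat.QCoh X, IsClosedAt U.1 M.obj → (M ⟶ M) := fun M hM =>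
    e.functor.preimage (ObjectProperty.homMk (scal (isClosedAt_map e U hM) s))
  obtain ⟨r, hr⟩ := exists_scal U.2 φ fun M N hM hN f => e.functor.map_injective (by
    simp only [φ, Functor.map_comp, Functor.map_preimage]
    exact InducedCategory.hom_ext (scal_comm _ _ s _))
  refine ⟨r, fun M hM => ?_⟩
  rw [show (ObjectProperty.homMk (scal hM r) : M ⟶ M) = φ M hM from
    InducedCategory.hom_ext (hr M hM).symm]
  simp only [φ, Functor.map_preimage]
  rfl

theorem corr_injective {U : QOpens X} {r r' : Γ(X, U.1)} {s : Γ(Y, (qMap e U).1)}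
    (h : Corr e U r s) (h' : Corr e U r' s) : r = r' := by
  refine scal_injective U.2 fun M hM => ?_
  exact congrArg InducedCategory.Hom.hom (e.functor.map_injective
    (InducedCategory.hom_ext ((h M hM).trans (h' M hM).symm)) :
      (ObjectProperty.homMk (scal hM r) : M ⟶ M) = ObjectProperty.homMk (scal hM r'))

theorem additive_equiv : e.functor.Additive :=
  have : HasFiniteBiproducts (QCohCat.QCoh X) := Abelian.hasFiniteBiproducts
  have := hasBinaryBiproducts_of_finite_biproducts (QCohCat.QCoh X)
  have := preservesBinaryBiproducts_of_preservesBinaryProducts e.functor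
  Functor.additive_of_preservesBinaryBiproducts _

/-- The isomorphism of rings of functions. -/
def ringIso (U : QOpens X) : Γ(X, U.1) ≃+* Γ(Y, (qMap e U).1) :=
  RingEquiv.ofBijective
    ({ toFun := fun r => (exists_corr e U r).choose
       map_one' := by
         refine corr_unique e (exists_corr e U 1).choose_spec fun M hM => ?_
         rw [scal_one (isClosedAt_map e U hM), show (ObjectProperty.homMk (scal hM 1) : M ⟶ M) = 𝟙 M from
           InducedCategory.hom_ext (scal_one hM), e.functor.map_id]
         rfl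
       map_mul' := fun a b => by
         refine corr_unique e (exists_corr e U (a * b)).choose_spec fun M hM => ?_
         rw [scal_mul (isClosedAt_map e U hM), ← (exists_corr e U a).choose_spec M hM,
           ← (exists_corr e U b).choose_spec M hM, show (ObjectProperty.homMk (scal hM (a * b)) : M ⟶ M) =
             ObjectProperty.homMk (scal hM b) ≫ ObjectProperty.homMk (scal hM a) from
           InducedCategory.hom_ext (scal_mul hM a b), e.functor.map_comp]
         rfl
       map_zero' := by
         refine corr_unique e (exists_corr e U 0).choose_spec fun M hM => ?_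
         have h0 : ∀ {Z : Scheme.{u}} {V : Z.Opens} {L : Z.Modules} (hL : IsClosedAt V L),
             scal hL 0 = 0 := fun hL => by
           have := scal_add hL 0 0
           rw [add_zero] at this
           exact add_eq_left.mp this.symm
         rw [show (ObjectProperty.homMk (scal hM 0) : M ⟶ M) = 0 from
           InducedCategory.hom_ext (h0 hM), Functor.map_zero, h0]
         rfl
       map_add' := fun a b => by
         refine corr_unique e (exists_corr e U (a + b)).choose_spec fun M hM => ?_
         rw [scal_add (isClosedAt_map e U hM), ← (exists_corr e U a).choose_spec M hM,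
           ← (exists_corr e U b).choose_spec M hM, show (ObjectProperty.homMk (scal hM (a + b)) : M ⟶ M) =
             ObjectProperty.homMk (scal hM a) + ObjectProperty.homMk (scal hM b) from
           InducedCategory.hom_ext (scal_add hM a b), (additive_equiv e).map_add]
         rfl } : Γ(X, U.1) →+* Γ(Y, (qMap e U).1))
    ⟨fun a b h => corr_injective e (exists_corr e U a).choose_spec
        ((show (exists_corr e U a).choose = (exists_corr e U b).choose from h) ▸
          (exists_corr e U b).choose_spec),
      fun s => by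
        obtain ⟨r, hr⟩ := exists_corr' e U s
        exact ⟨r, corr_unique e (exists_corr e U r).choose_spec hr⟩⟩

theorem corr_ringIso (U : QOpens X) (r : Γ(X, U.1)) : Corr e U r (ringIso e U r) :=
  (exists_corr e U r).choose_spec

theorem ringIso_res {U U' : QOpens X} (h : U'.1 ≤ U.1) (r : Γ(X, U.1)) :
    ringIso e U' (resO X h r) =
      resO Y ((qMap_le_iff e U' U).mpr h) (ringIso e U r) := by
  refine corr_unique e (corr_ringIso e U' _) fun M hM => ?_
  rw [← scal_res hM h r, corr_ringIso e U r M (hM.mono h)]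
  exact scal_res (isClosedAt_map e U' hM) ((qMap_le_iff e U' U).mpr h) _

/-- The inverse image under the homeomorphism. -/
theorem exists_homeo : ∃ h : Y ≃ₜ X, ∀ U : QOpens X,
    (Opens.map (TopCat.ofHom ⟨h, h.continuous⟩ : (Y : TopCat) ⟶ X)).obj U.1 = (qMap e U).1 := by
  obtain ⟨h, hh⟩ := exists_homeomorph (qIso e)
  exact ⟨h, fun U => Opens.ext (Set.ext fun y => hh U y)⟩

/-- An isomorphism of schemes with prescribed functions on quasi-compact opens. -/
theorem exists_scheme_iso : ∃ f : Y ≅ X, ∀ U : QOpens X, ∃ hU : f.hom ⁻¹ᵁ U.1 = (qMap e U).1,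
    ∀ r : Γ(X, U.1), f.hom.appLE U.1 (qMap e U).1 hU.ge r = ringIso e U r := by
  obtain ⟨h, hh⟩ := exists_homeo e
  let H : (Y : TopCat) ≅ X := TopCat.isoOfHomeo h
  let F' : TopCat.Sheaf CommRingCat.{u} X :=
    (TopCat.Sheaf.pushforward CommRingCat.{u} H.hom).obj Y.sheaf
  let B : QOpens X → Opens X := fun U => U.1
  have hB : Opens.IsBasis (Set.range B) := Opens.isBasis_iff_nbhd.mpr fun {W x} hx => by
    obtain ⟨U, hxU, hle⟩ := exists_qOpens_of_mem hx
    exact ⟨U.1, ⟨U, rfl⟩, hxU, hle⟩
  let α₀ : (inducedFunctor B).op ⋙ X.sheaf.1 ⟶ (inducedFunctor B).op ⋙ F'.1 :=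
    { app := fun U => CommRingCat.ofHom (ringIso e U.unop).toRingHom ≫
        Y.presheaf.map (eqToHom (hh U.unop)).op
      naturality := fun U U' i => by
        have hle : (U'.unop : QOpens X).1 ≤ (U.unop : QOpens X).1 := leOfHom i.unop.hom
        ext r
        change Y.presheaf.map _ (ringIso e U'.unop (resO X hle r)) =
          Y.presheaf.map _ (Y.presheaf.map _ (ringIso e U.unop r))
        rw [ringIso_res e hle, resO, ← Y.presheaf.map_comp_apply, ← Y.presheaf.map_comp_apply]
        rfl }
  let α : X.sheaf ⟶ F' := ⟨TopCat.Sheaf.restrictHomEquivHom X.sheaf.1 F' hB α₀⟩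
  have hα : ∀ U : QOpens X, α.hom.app (op U.1) =
      CommRingCat.ofHom (ringIso e U).toRingHom ≫ Y.presheaf.map (eqToHom (hh U)).op := fun U =>
    TopCat.Sheaf.extend_hom_app _ _ hB α₀ U
  haveI : IsIso α := TopCat.Sheaf.isIso_iff_isIso_basis hB fun U => by
    rw [hα]
    exact IsIso.comp_isIso' (ringIso e U).toCommRingCatIso.isIso_hom
      (Y.presheaf.mapIso (eqToIso (hh U)).op).isIso_hom
  let αIso : H.hom _* Y.presheaf ≅ X.presheaf := (TopCat.Sheaf.forget CommRingCat.{u} X).mapIso (asIso α).symm
  let sp : Y.toSheafedSpace ≅ X.toSheafedSpace :=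
    SheafedSpace.isoMk (PresheafedSpace.isoOfComponents H αIso)
  let f : Y ≅ X := Scheme.fullyFaithfulForgetToLocallyRingedSpace.preimageIso
    (LocallyRingedSpace.isoOfSheafedSpaceIso (X := Y.toLocallyRingedSpace) (Y := X.toLocallyRingedSpace) sp)
  refine ⟨f, fun U => ⟨hh U, fun r => ?_⟩⟩
  change Y.presheaf.map _ (α.hom.app (op U.1) r) = _
  rw [hα]
  change Y.presheaf.map _ (Y.presheaf.map _ (ringIso e U r)) = _
  rw [← Y.presheaf.map_comp_apply]
  change Y.presheaf.map (𝟙 (op (qMap e U).1)) _ = _
  rw [Y.presheaf.map_id]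
  rfl

end Groth.Agent.GRec72
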